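import Cfsg.Agent.Lib.Spor.SuzR.Five.FiveB

/-!
Groups of Suzuki sporadic type: five-elements centralising a conjugate of the central involution.
-/

set_option autoImplicit false
set_option maxRecDepth 100000
set_option linter.unusedSectionVars false
set_option linter.style.haveILetI false

namespace Cfsg.Agent.Spor.SuzT.Rad

open Chk Dat
open Cfsg.Agent.Solv.CITGroups (CIT orderOf_two_iff)

/-- an element of order five and one inducing squaring on it -/
def fiveWordsOK : Bool :=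
  wlt [0, 0, 0, 1] && wlt [0, 1, 0, 0, 0, 1, 1, 0, 1, 1, 0] &&
    !(wp [0, 0, 0, 1] == idL) &&
    mulL (mulL (mulL (mulL (wp [0, 0, 0, 1]) (wp [0, 0, 0, 1])) (wp [0, 0, 0, 1])) (wp [0, 0, 0, 1]))
        (wp [0, 0, 0, 1]) == idL &&
    mulL (wp [0, 1, 0, 0, 0, 1, 1, 0, 1, 1, 0]) (wp [0, 0, 0, 1]) ==
      mulL (mulL (wp [0, 0, 0, 1]) (wp [0, 0, 0, 1])) (wp [0, 1, 0, 0, 0, 1, 1, 0, 1, 1, 0])

theorem five_words_ok : fiveWordsOK = true := by decide +kernel

theorem exists_five_word : ∃ p g : Ga, orderOf p = 5 ∧ g * p * g⁻¹ = p ^ 2 := by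
  have h := five_words_ok
  simp only [fiveWordsOK, Bool.and_eq_true, beq_iff_eq, Bool.not_eq_true', beq_eq_false_iff_ne, ne_eq] at h
  obtain ⟨⟨⟨⟨hp, hg⟩, h1⟩, h5⟩, hc⟩ := h
  have hP := we_cols hp
  have hG := we_cols hg
  refine ⟨we [0, 0, 0, 1], we [0, 1, 0, 0, 0, 1, 1, 0, 1, 1, 0], ?_, ?_⟩
  · haveI : Fact (Nat.Prime 5) := ⟨by norm_num⟩
    refine orderOf_eq_prime ?_ fun e => h1 (hP.unique (by rw [e]; exact IsCols.one))
    rw [show ∀ a : Ga, a ^ 5 = a * a * a * a * a from fun a => by rw [pow_succ, pow_succ, pow_succ, pow_succ, pow_one]]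
    exact Subtype.ext (((((hP.mul hP).mul hP).mul hP).mul hP).ext (h5 ▸ IsCols.one))
  · rw [mul_inv_eq_iff_eq_mul, pow_two]
    refine Subtype.ext ((hG.mul hP).ext ?_)
    rw [hc]
    exact (hP.mul hP).mul hG

/-- the vectors fixed by an element of order five -/
theorem fix_le_four {p : Ga} (hp : orderOf p = 5) : Nat.card {v : V // p • v = v} ≤ 4 := by
  classical
  haveI : Fact (Nat.Prime 5) := ⟨by norm_num⟩
  have hP : IsPGroup 5 (Subgroup.zpowers p) := IsPGroup.of_card (n := 1) (by rw [Nat.card_zpowers, hp, pow_one])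
  have hmod := hP.card_modEq_card_fixedPoints V
  have hfix : Nat.card (MulAction.fixedPoints (Subgroup.zpowers p) V) = Nat.card {v : V // p • v = v} := by
    refine Nat.card_congr (Equiv.subtypeEquivRight fun v => ⟨fun h => h ⟨p, Subgroup.mem_zpowers p⟩, fun h a => ?_⟩)
    obtain ⟨i, hi⟩ := a.2
    have : p ^ i ∈ MulAction.stabilizer Ga v := zpow_mem (MulAction.mem_stabilizer_iff.2 h) i
    exact (congrArg (· • v) hi.symm).trans this
  let F : AddSubgroup V :=
    { carrier := {v | p • v = v}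
      zero_mem' := map_zero (p : OG).1
      add_mem' := fun {v w} hv hw => by
        show (p : OG).1 (v + w) = v + w
        rw [map_add, show (p : OG).1 v = v from hv, show (p : OG).1 w = w from hw]
      neg_mem' := fun {v} hv => by
        show (p : OG).1 (-v) = -v
        rw [map_neg, show (p : OG).1 v = v from hv] }
  have hV : Nat.card V = 64 := by rw [Nat.card_eq_fintype_card]; decide
  have hdvd : Nat.card {v : V // p • v = v} ∣ 2 ^ 6 := by
    have h := F.card_addSubgroup_dvd_card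
    rw [hV] at h
    exact h
  rw [hfix, hV] at hmod
  obtain ⟨d, hd, he⟩ := (Nat.dvd_prime_pow Nat.prime_two).1 hdvd
  rw [he] at hmod ⊢
  interval_cases d
  all_goals first
    | (norm_num; done)
    | (exfalso; norm_num [Nat.ModEq] at hmod; done)
    | skip
  exfalso
  have hall : ∀ v : V, p • v = v := fun v => by
    have hsub : (⊤ : AddSubgroup V) ≤ F := (AddSubgroup.eq_of_le_of_card_ge le_top (by
      rw [AddSubgroup.card_top, hV]; exact le_of_eq he.symm)).ge
    exact hsub (AddSubgroup.mem_top v)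
  have : p = 1 := Subtype.ext (Subtype.ext (LinearEquiv.ext fun v => hall v))
  rw [this, orderOf_one] at hp
  norm_num at hp

universe u

variable {G : Type u} [Group G] [Finite G] {z : G} {Q : Subgroup G}

theorem five_notin (h : Hyp z Q) {b : G} (hb : orderOf b = 5) : b ∉ Q := fun hQ => by
  have := Subgroup.orderOf_dvd_natCard _ hQ
  rw [hb, h.card] at this
  norm_num at this

theorem Ctx.five_pi (C : Ctx z Q) {b : G} (hb : orderOf b = 5) (hbz : Commute b z) :
    orderOf (C.F.π (cC hbz)) = 5 := by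
  haveI : Fact (Nat.Prime 5) := ⟨by norm_num⟩
  refine orderOf_eq_prime ?_ fun e => five_notin C.hy hb ((C.F.π_ker _).1 e)
  rw [← map_pow, show cC hbz ^ 5 = 1 from Subtype.ext (show b ^ 5 = 1 by rw [← hb, pow_orderOf_eq_one]), map_one]

/-- two-subgroups centralising an element of order five in the centraliser of the involution are small -/
theorem Ctx.two_le_eight (C : Ctx z Q) {b : G} (hb : orderOf b = 5) (hbz : Commute b z) {S : Subgroup G}
    (h2 : IsPGroup 2 S) (hSz : ∀ s ∈ S, Commute s z) (hSb : ∀ s ∈ S, Commute s b) : Nat.card S ≤ 8 := by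
  classical
  have hp := C.five_pi hb hbz
  set p := C.F.π (cC hbz) with hpdef
  have hSQ : S ≤ Q := fun s hs => by
    set m := C.F.π (cC (hSz s hs)) with hm
    by_contra hn
    have hm1 : m ≠ 1 := fun e => hn ((C.F.π_ker _).1 e)
    obtain ⟨j, hj⟩ := h2 ⟨s, hs⟩
    have hmj : m ^ 2 ^ j = 1 := by
      rw [hm, ← map_pow, show cC (hSz s hs) ^ 2 ^ j = 1 from Subtype.ext
        (show s ^ 2 ^ j = 1 from congrArg Subtype.val hj), map_one]
    obtain ⟨l, -, hl⟩ := (Nat.dvd_prime_pow Nat.prime_two).1 (orderOf_dvd_of_pow_eq_one hmj)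
    obtain ⟨l, rfl⟩ : ∃ l', l = l' + 1 := Nat.exists_eq_add_one.2 (Nat.pos_of_ne_zero fun e => hm1
      (orderOf_eq_one_iff.1 (by rw [hl, e, pow_zero])))
    have ho : orderOf (m ^ 2 ^ l) = 2 := by
      rw [orderOf_pow' _ (by positivity), hl, pow_succ, Nat.gcd_mul_right_left, Nat.mul_div_cancel_left _ (by positivity)]
    obtain ⟨hi2, hi1⟩ := orderOf_two_iff.1 ho
    have hcm : Commute (cC hbz) (cC (hSz s hs)) := Subtype.ext (hSb s hs).symm.eq
    have h1 := no_five hi2 hi1 (show p ^ 5 = 1 by rw [← hp, pow_orderOf_eq_one]) ((hcm.map C.F.π).pow_right _)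
    rw [h1, orderOf_one] at hp
    norm_num at hp
  let f : S → {v : V // p • v = v} := fun s => ⟨C.F.vec (s : G), by
    rw [hpdef, ← C.F.vec_conj _ _ (hSQ s.2)]
    show C.F.vec (b * s * b⁻¹) = _
    rw [(hSb s s.2).symm.eq, mul_inv_cancel_right]⟩
  haveI : Fintype S := Fintype.ofFinite _
  haveI : Fintype {v : V // p • v = v} := Fintype.ofFinite _
  have hfib : ∀ v, (Finset.univ.filter fun s => f s = v).card ≤ 2 := fun v => by
    rcases Finset.eq_empty_or_nonempty (Finset.univ.filter fun s => f s = v) with e | ⟨s0, hs0⟩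
    · rw [e]; simp
    simp only [Finset.mem_filter, Finset.mem_univ, true_and] at hs0
    refine le_trans (Finset.card_le_card_of_injOn (t := (Finset.univ : Finset (Fin 2)))
      (fun s => if (s : G) = s0 then (0 : Fin 2) else 1)
      (fun s _ => Finset.mem_univ _) fun s hs s' hs' e => ?_) (by simp)
    simp only [Finset.coe_filter, Finset.mem_univ, true_and, Set.mem_setOf_eq] at hs hs'
    have hval : ∀ s : S, f s = v → (s : G) = s0 ∨ (s : G) = s0 * z := fun s hs =>
      vec_eq C.F (hSQ s.2) (hSQ s0.2) C.hy (congrArg Subtype.val (hs.trans hs0.symm))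
    have hne : (s0 : G) * z ≠ s0 := fun e => z_ne C.hy (mul_eq_left.1 e)
    refine Subtype.ext ?_
    rcases hval s hs with h | h <;> rcases hval s' hs' with h' | h' <;>
      simp only [h, h', hne, if_true, if_false] at e ⊢ <;> exact absurd e (by decide)
  have h1 := Finset.card_le_mul_card_image (f := f) (Finset.univ : Finset S) 2 fun v _ => hfib v
  rw [Finset.card_univ, ← Nat.card_eq_fintype_card] at h1
  refine h1.trans ((Nat.mul_le_mul_left 2 ((Finset.card_le_univ _).trans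
    ((Nat.card_eq_fintype_card (α := {v : V // p • v = v})).symm.trans_le (fix_le_four hp)))).trans (by norm_num))

/-- a five-element in the centraliser of the involution fused to its square there -/
theorem Ctx.exists_five_square (C : Ctx z Q) :
    ∃ b c : G, orderOf b = 5 ∧ Commute b z ∧ Commute c z ∧ c * b * c⁻¹ = b ^ 2 := by
  haveI : Fact (Nat.Prime 5) := ⟨by norm_num⟩
  obtain ⟨p, g, hp, hg⟩ := exists_five_word
  obtain ⟨a, ha⟩ := C.F.π_surj p
  obtain ⟨e, he⟩ := C.F.π_surj g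
  have h5 : 5 ∣ orderOf a := hp ▸ ha ▸ orderOf_map_dvd C.F.π a
  set bC := a ^ (orderOf a / 5) with hbC
  have hbo : orderOf bC = 5 := orderOf_pow_orderOf_div (orderOf_pos a).ne' h5
  have hbQ : (bC : G) ∉ Q := five_notin C.hy (by rw [Subgroup.orderOf_coe, hbo])
  set r := C.F.π bC with hr
  have hr5 : orderOf r = 5 := by
    refine orderOf_eq_prime ?_ fun h => hbQ ((C.F.π_ker _).1 h)
    rw [hr, ← map_pow, ← hbo, pow_orderOf_eq_one, map_one]
  have hgr : g * r * g⁻¹ = r ^ 2 := by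
    rw [hr, hbC, map_pow, ha, ← conj_pow, hg, ← pow_mul, ← pow_mul, mul_comm]
  set R := (Subgroup.zpowers r).comap C.F.π with hR
  have hRc : Nat.card R = 5 ^ 1 * 128 := by
    have h1 := R.card_mul_index
    rw [hR, Subgroup.index_comap_of_surjective _ C.F.π_surj, C.hy.cardC] at h1
    have h2 := (Subgroup.zpowers r).card_mul_index
    rw [Nat.card_zpowers, hr5, card_Ga] at h2
    rw [show (Subgroup.zpowers r).index = 5184 by omega] at h1
    rw [hR]
    omega
  have hbR : bC ∈ R := Subgroup.mem_zpowers r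
  have hbR' : e * bC * e⁻¹ ∈ R := by
    show C.F.π (e * bC * e⁻¹) ∈ Subgroup.zpowers r
    rw [map_mul, map_mul, map_inv, he, ← hr, hgr]
    exact Subgroup.npow_mem_zpowers r 2
  have hsyl : ∀ {x : Subgroup.centralizer ({z} : Set G)} (hx : x ∈ R), orderOf x = 5 →
      ∃ S : Sylow 5 R, (S : Subgroup R) = Subgroup.zpowers (⟨x, hx⟩ : R) := fun {x} hx ho => by
    refine ⟨Sylow.ofCard (Subgroup.zpowers (⟨x, hx⟩ : R)) ?_, rfl⟩
    rw [Nat.card_zpowers, Subgroup.orderOf_mk, ho, hRc, Nat.factorization_mul (by norm_num) (by norm_num),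
      Finsupp.add_apply, (by norm_num : Nat.Prime 5).factorization_pow, Finsupp.single_eq_same,
      Nat.factorization_eq_zero_of_not_dvd (by norm_num : ¬ 5 ∣ 128)]
    norm_num
  obtain ⟨S1, hS1⟩ := hsyl hbR hbo
  obtain ⟨S2, hS2⟩ := hsyl hbR' (by rw [← MulAut.conj_apply, MulEquiv.orderOf_eq, hbo])
  obtain ⟨d, hd⟩ := MulAction.exists_smul_eq R S2 S1
  have hm : d * ⟨_, hbR'⟩ * d⁻¹ ∈ (S1 : Subgroup R) := by
    rw [← hd]
    exact ⟨⟨_, hbR'⟩, hS2.symm ▸ Subgroup.mem_zpowers (⟨_, hbR'⟩ : R), rfl⟩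
  rw [hS1, ← mem_powers_iff_mem_zpowers] at hm
  obtain ⟨j, hj⟩ := hm
  have hj' : bC ^ j = (d : Subgroup.centralizer ({z} : Set G)) * (e * bC * e⁻¹) *
      (d : Subgroup.centralizer ({z} : Set G))⁻¹ := congrArg Subtype.val hj
  have hpi : r ^ j = r ^ 2 := by
    have h := congrArg C.F.π hj'
    rw [map_pow, map_mul, map_mul, map_mul, map_mul, map_inv, map_inv, he, ← hr, hgr] at h
    obtain ⟨i, hi⟩ : C.F.π (d : Subgroup.centralizer ({z} : Set G)) ∈ Subgroup.zpowers r := d.2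
    have hc : Commute (C.F.π (d : Subgroup.centralizer ({z} : Set G))) (r ^ 2) := by
      rw [← hi]; exact ((Commute.refl r).zpow_left i).pow_right 2
    rwa [hc.eq, mul_inv_cancel_right] at h
  have hj2 : bC ^ j = bC ^ 2 := by
    rw [pow_eq_pow_iff_modEq, hbo]
    rwa [pow_eq_pow_iff_modEq, hr5] at hpi
  refine ⟨bC, ((d : Subgroup.centralizer ({z} : Set G)) * e : _), by rw [Subgroup.orderOf_coe, hbo],
    mem_C.1 bC.2, mem_C.1 (mul_mem (d : Subgroup.centralizer ({z} : Set G)).2 e.2), ?_⟩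
  rw [← Subgroup.coe_pow, ← hj2, hj', ← Subgroup.coe_inv, ← Subgroup.coe_mul, ← Subgroup.coe_mul]
  congr 1
  group

variable {C : Ctx z Q} (L : Cfg C)

include L in
/-- every Sylow subgroup is self-centralising -/
theorem Cfg.syl_self_cent (P : Sylow 5 G) {x : G} (hx : ∀ p ∈ (P : Subgroup G), Commute x p) :
    x ∈ (P : Subgroup G) := by
  haveI : Fact (Nat.Prime 5) := ⟨by norm_num⟩
  obtain ⟨b, B⟩ := L.exists_fiv
  obtain ⟨R, hR⟩ :=
    (IsPGroup.of_card (n := 1) (by rw [Nat.card_zpowers, B.ord, pow_one]) : IsPGroup 5 (Subgroup.zpowers b)).exists_le_sylow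
  obtain ⟨c, hc⟩ := MulAction.exists_smul_eq G R P
  have hmem : ∀ y ∈ (R : Subgroup G), c * y * c⁻¹ ∈ (P : Subgroup G) := fun y hy => hc ▸ ⟨y, hy, rfl⟩
  have h := B.cent_syl R (hR (Subgroup.mem_zpowers b)) (x := c⁻¹ * x * c) fun y hy => by
    have h1 := (Commute.conj_iff c⁻¹).2 (hx _ (hmem y hy))
    rwa [inv_inv, show c⁻¹ * (c * y * c⁻¹) * c = y by group] at h1
  have h2 := hmem _ h
  rwa [show c * (c⁻¹ * x * c) * c⁻¹ = x by group] at h2

include L in
theorem Cfg.syl_of_card {T : Subgroup G} (hT : Nat.card T = 25) : ∃ P : Sylow 5 G, (P : Subgroup G) = T := by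
  haveI : Fact (Nat.Prime 5) := ⟨by norm_num⟩
  obtain ⟨P, hP⟩ := (IsPGroup.of_card (n := 2) (by rw [hT]; norm_num) : IsPGroup 5 T).exists_le_sylow
  exact ⟨P, (Subgroup.eq_of_le_of_card_ge hP (by rw [L.card_syl5 P, hT])).symm⟩

include L in
/-- an element of the normaliser of the Sylow subgroup fixing a five-element centralising the involution -/
theorem Cfg.fix_move {b : G} (hb : orderOf b = 5) (hbz : Commute b z) (P : Sylow 5 G) (hbP : b ∈ (P : Subgroup G)) :
    ∃ n ∈ Subgroup.normalizer ((P : Subgroup G) : Set G), Commute n b ∧ n ∉ (P : Subgroup G) := by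
  classical
  by_contra hcon
  push Not at hcon
  haveI : Fact (Nat.Prime 2) := ⟨Nat.prime_two⟩
  haveI : Fact (Nat.Prime 5) := ⟨by norm_num⟩
  have hPX : (P : Subgroup G) ≤ cX b := fun p hp => mem_cX.2 (L.syl5_comm P hp hbP)
  set PX : Sylow 5 (cX b) := P.subtype hPX with hPXdef
  have hle : Subgroup.normalizer ((PX : Subgroup (cX b)) : Set (cX b)) ≤
      Subgroup.centralizer ((PX : Subgroup (cX b)) : Set (cX b)) := by
    intro x hx
    have hxN : (x : G) ∈ Subgroup.normalizer ((P : Subgroup G) : Set G) := Tw.mem_normalizer_of fun p hp =>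
      (Subgroup.mem_normalizer_iff.1 hx ⟨p, hPX hp⟩).1 hp
    have hxP := hcon _ hxN (mem_cX.1 x.2)
    exact Subgroup.mem_centralizer_iff.2 fun p hp => Subtype.ext (L.syl5_comm P (show (p : G) ∈ _ from hp) hxP).eq
  have hc := MonoidHom.ker_transferSylow_isComplement' PX hle
  set K := (MonoidHom.transferSylow PX hle).ker with hK
  haveI : K.Normal := by rw [hK]; infer_instance
  have hPX25 : Nat.card (PX : Subgroup (cX b)) = 25 := by
    rw [← L.card_syl5 P]
    exact Nat.card_congr (Subgroup.subgroupOfEquivOfLe hPX).toEquiv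
  have hcard := hc.card_mul
  rw [hPX25] at hcard
  have hidx : K.index = 25 := by
    have h := K.card_mul_index
    rw [← hcard] at h
    exact Nat.eq_of_mul_eq_mul_left Nat.card_pos h
  have hK5 : ¬ 5 ∣ Nat.card K := fun h => by
    refine PX.not_dvd_index ?_
    have h2 := (PX : Subgroup (cX b)).card_mul_index
    rw [hPX25, ← hcard, mul_comm] at h2
    rwa [Nat.eq_of_mul_eq_mul_right (by norm_num) h2]
  have hzX : z ∈ cX b := mem_cX.2 hbz.symm
  have hzK : (⟨z, hzX⟩ : cX b) ∈ K := by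
    rw [← QuotientGroup.eq_one_iff]
    refine orderOf_eq_one_iff.1 (Nat.eq_one_of_dvd_coprimes (by norm_num : Nat.Coprime 2 25)
      ((orderOf_map_dvd (QuotientGroup.mk' K) _).trans (dvd_of_eq (by rw [Subgroup.orderOf_mk, C.hy.ord])))
      (hidx ▸ orderOf_dvd_natCard (QuotientGroup.mk' K ⟨z, hzX⟩ : cX b ⧸ K)))
  obtain ⟨S, hS⟩ := (IsPGroup.of_card (n := 1) (by rw [Nat.card_zpowers, Subgroup.orderOf_mk, Subgroup.orderOf_mk, C.hy.ord, pow_one]) :
    IsPGroup 2 (Subgroup.zpowers (⟨⟨z, hzX⟩, hzK⟩ : K))).exists_le_sylow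
  set SX := (S : Subgroup K).map K.subtype with hSX
  set N := Subgroup.normalizer (SX : Set (cX b)) with hN
  have hsup : N ⊔ K = ⊤ := Sylow.normalizer_sup_eq_top S
  have h25 : 25 ∣ Nat.card N := by
    have h1 := Subgroup.relIndex_mul_index (inf_le_right : N ⊓ K ≤ K)
    have h2 := Subgroup.relIndex_mul_index (inf_le_left : N ⊓ K ≤ N)
    rw [Subgroup.inf_relIndex_right] at h1
    rw [Subgroup.inf_relIndex_left, ← Subgroup.relIndex_sup_right, hsup, Subgroup.relIndex_top_right,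
      ← h1, mul_comm] at h2
    have hNi : N.index ∣ Nat.card K := by
      rw [Nat.eq_of_mul_eq_mul_right (Nat.pos_of_ne_zero K.index_ne_zero_of_finite) h2]
      exact Subgroup.relIndex_dvd_card _ _
    have h3 : 25 ∣ Nat.card N * N.index := by rw [N.card_mul_index, ← hcard]; exact Dvd.intro_left _ rfl
    exact (Nat.Coprime.pow_left 2 ((by norm_num : Nat.Prime 5).coprime_iff_not_dvd.2
      fun h => hK5 (h.trans hNi)) : Nat.Coprime 25 N.index).dvd_of_dvd_mul_right h3
  set NG := N.map (cX b).subtype with hNG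
  have hNG25 : 25 ∣ Nat.card NG := by
    rwa [hNG, Subgroup.card_map_of_injective (cX b).subtype_injective]
  obtain ⟨R0⟩ : Nonempty (Sylow 5 NG) := inferInstance
  have hR0 : Nat.card ((R0 : Subgroup NG).map NG.subtype) = 25 := by
    rw [Subgroup.card_map_of_injective NG.subtype_injective]; exact L.twentyfive_max hNG25 R0
  obtain ⟨R, hR⟩ := L.syl_of_card hR0
  have hRN : ∀ r ∈ (R : Subgroup G), ∃ hr : r ∈ cX b, (⟨r, hr⟩ : cX b) ∈ N := by
    rw [hR]
    rintro _ ⟨⟨r, hr⟩, -, rfl⟩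
    obtain ⟨⟨r', hr'⟩, hm, rfl⟩ := hr
    exact ⟨hr', hm⟩
  have hbR : b ∈ (R : Subgroup G) := L.syl_self_cent R fun r hr => (mem_cX.1 (hRN r hr).1).symm
  obtain ⟨y, hy, hyb⟩ : ∃ y ∈ (R : Subgroup G), y ∉ Subgroup.zpowers b := by
    refine SetLike.exists_of_lt ((Subgroup.zpowers_le.2 hbR).lt_of_ne fun e => ?_)
    have h := L.card_syl5 R
    rw [← e, Nat.card_zpowers, hb] at h
    norm_num at h
  set SG := SX.map (cX b).subtype with hSG
  set Z := SG ⊓ Subgroup.centralizer (SG : Set G) with hZ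
  have hS2 : IsPGroup 2 SG := (S.isPGroup'.map _).map _
  have hSGX : ∀ s ∈ SG, s ∈ cX b := by rintro _ ⟨s, -, rfl⟩; exact s.2
  have hgen : ∀ x, Commute x y → Commute x b → x ∈ (R : Subgroup G) := fun x hxy hxb => by
    refine L.syl_self_cent R fun r hr => ?_
    have htop : Subgroup.zpowers b ⊔ Subgroup.zpowers y = (R : Subgroup G) := by
      refine Subgroup.eq_of_le_of_card_ge (sup_le (Subgroup.zpowers_le.2 hbR) (Subgroup.zpowers_le.2 hy)) ?_
      have hlt : Subgroup.zpowers b < Subgroup.zpowers b ⊔ Subgroup.zpowers y :=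
        lt_of_le_not_ge le_sup_left fun h => hyb (h (Subgroup.mem_sup_right (Subgroup.mem_zpowers y)))
      have hdvd : Nat.card ↥(Subgroup.zpowers b ⊔ Subgroup.zpowers y) ∣ 5 ^ 2 := by
        rw [show (5 : ℕ) ^ 2 = 25 by norm_num, ← L.card_syl5 R]
        exact Subgroup.card_dvd_of_le (sup_le (Subgroup.zpowers_le.2 hbR) (Subgroup.zpowers_le.2 hy))
      obtain ⟨k, hk, e⟩ := (Nat.dvd_prime_pow (by norm_num : Nat.Prime 5)).1 hdvd
      have h5 : 5 < Nat.card ↥(Subgroup.zpowers b ⊔ Subgroup.zpowers y) := by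
        by_contra hle
        exact hlt.ne (Subgroup.eq_of_le_of_card_ge hlt.le (by rw [Nat.card_zpowers, hb]; omega))
      rw [L.card_syl5 R]
      rw [e] at h5 ⊢
      interval_cases k <;> omega
    rw [← htop] at hr
    have : Subgroup.zpowers b ⊔ Subgroup.zpowers y ≤ cX x :=
      sup_le (Subgroup.zpowers_le.2 (mem_cX.2 hxb.symm)) (Subgroup.zpowers_le.2 (mem_cX.2 hxy.symm))
    exact (mem_cX.1 (this hr)).symm
  -- conjugation by the Sylow subgroup on the centre
  have hconjS : ∀ r ∈ (R : Subgroup G), ∀ s ∈ SG, r * s * r⁻¹ ∈ SG := by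
    rintro r hr _ ⟨s, hs, rfl⟩
    obtain ⟨hrX, hrN⟩ := hRN r hr
    exact ⟨_, (Subgroup.mem_normalizer_iff.1 hrN s).1 hs, rfl⟩
  have hconjZ : ∀ r ∈ (R : Subgroup G), ∀ s ∈ Z, r * s * r⁻¹ ∈ Z := fun r hr s hs =>
    ⟨hconjS r hr s hs.1, Subgroup.mem_centralizer_iff.2 fun t ht => by
      have h0 : Commute (r⁻¹ * t * r) s := Subgroup.mem_centralizer_iff.1 hs.2 _ (by
        have := hconjS r⁻¹ (inv_mem hr) t ht
        rwa [inv_inv] at this)
      have := (Commute.conj_iff r).2 h0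
      rwa [show r * (r⁻¹ * t * r) * r⁻¹ = t by group] at this⟩
  let act : MulAction (Subgroup.zpowers y) Z :=
    { smul := fun a s => ⟨(a : G) * s * (a : G)⁻¹, hconjZ a (Subgroup.zpowers_le.2 hy a.2) s s.2⟩
      one_smul := fun s => Subtype.ext (show (1 : G) * s * (1 : G)⁻¹ = s by group)
      mul_smul := fun a c s => Subtype.ext (show (a : G) * c * s * ((a : G) * c)⁻¹ = a * (c * s * (c : G)⁻¹) * (a : G)⁻¹ by group) }
  letI := act
  have hyP : IsPGroup 5 (Subgroup.zpowers y) := R.isPGroup'.to_le (Subgroup.zpowers_le.2 hy)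
  have hmod := hyP.card_modEq_card_fixedPoints Z
  have hfix : Nat.card (MulAction.fixedPoints (Subgroup.zpowers y) Z) = 1 := by
    refine Nat.card_eq_one_iff_exists.2 ⟨⟨1, fun a => Subtype.ext (show (a : G) * 1 * (a : G)⁻¹ = 1 by group)⟩,
      fun s => Subtype.ext (Subtype.ext ?_)⟩
    obtain ⟨⟨s, hsZ⟩, hs⟩ := s
    have e : y * s * y⁻¹ = s := congrArg Subtype.val (hs ⟨y, Subgroup.mem_zpowers y⟩)
    have hsR := hgen s (mul_inv_eq_iff_eq_mul.1 e).symm (mem_cX.1 (hSGX s hsZ.1))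
    obtain ⟨i, hi⟩ := hS2 ⟨s, hsZ.1⟩
    obtain ⟨j, hj⟩ := R.isPGroup' ⟨s, hsR⟩
    exact orderOf_eq_one_iff.1 (Nat.eq_one_of_dvd_coprimes (Nat.Coprime.pow i j (by norm_num : Nat.Coprime 2 5))
      (orderOf_dvd_of_pow_eq_one (congrArg Subtype.val hi)) (orderOf_dvd_of_pow_eq_one (congrArg Subtype.val hj)))
  rw [hfix] at hmod
  have hzS : z ∈ SG := ⟨⟨z, hzX⟩, ⟨⟨⟨z, hzX⟩, hzK⟩, hS (Subgroup.mem_zpowers _), rfl⟩, rfl⟩
  have hZ8 : Nat.card Z ≤ 8 := C.two_le_eight hb hbz (hS2.to_le inf_le_left)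
    (fun s hs => (Subgroup.mem_centralizer_iff.1 hs.2 z hzS : Commute z s).symm)
    (fun s hs => mem_cX.1 (hSGX s hs.1))
  have hZ1 : 1 < Nat.card Z := by
    haveI : Nontrivial SG := ⟨⟨z, hzS⟩, 1, fun e => z_ne C.hy (congrArg Subtype.val e)⟩
    haveI := hS2.center_nontrivial
    obtain ⟨w, hw⟩ := exists_ne (1 : Subgroup.center SG)
    have hwZ : ((w : SG) : G) ∈ Z := ⟨(w : SG).2, Subgroup.mem_centralizer_iff.2 fun t ht =>
      congrArg Subtype.val (Subgroup.mem_center_iff.1 w.2 ⟨t, ht⟩)⟩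
    haveI : Nontrivial Z := ⟨⟨_, hwZ⟩, 1, fun e =>
      hw (Subtype.ext (Subtype.ext (congrArg (fun a : Z => (a : G)) e)))⟩
    exact Finite.one_lt_card
  obtain ⟨k, hk⟩ := IsPGroup.iff_card.1 (hS2.to_le (inf_le_left : Z ≤ SG))
  rw [hk] at hmod hZ8 hZ1
  have hk3 : k < 4 := (Nat.pow_lt_pow_iff_right (by norm_num : 1 < 2)).1 (hZ8.trans_lt (by norm_num))
  interval_cases k <;> revert hmod hZ1 <;> decide

end Cfsg.Agent.Spor.SuzT.Rad
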