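import Mathlib

/-!
Automorphism groups of an elementary abelian group of order twenty-five with two orbits on lines.
-/

set_option autoImplicit false
set_option linter.unusedSectionVars false
set_option linter.style.haveILetI false

namespace Cfsg.Agent.Spor.SuzT.Five

universe u

/-- the lines -/
abbrev Lines (P : Type u) [Group P] : Type u := {H : Subgroup P // Nat.card H = 5}

variable {P : Type u} [Group P] [Finite P]

/-- the standing assumption -/
structure Elem25 (P : Type u) [Group P] : Prop where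
  card : Nat.card P = 25
  pow : ∀ p : P, p ^ 5 = 1

namespace Elem25

variable (E : Elem25 P)
include E

theorem comm (a c : P) : Commute a c := by
  haveI : Fact (Nat.Prime 5) := ⟨by norm_num⟩
  exact (IsPGroup.commGroupOfCardEqPrimeSq (p := 5) (G := P) (by rw [E.card]; norm_num)).mul_comm a c

theorem ord {p : P} (hp : p ≠ 1) : orderOf p = 5 := by
  haveI : Fact (Nat.Prime 5) := ⟨by norm_num⟩
  exact orderOf_eq_prime (E.pow p) hp

theorem pow_mod (p : P) (n : ℕ) : p ^ (n % 5) = p ^ n := by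
  conv_rhs => rw [← Nat.div_add_mod n 5, pow_add, pow_mul, E.pow, one_pow, one_mul]

theorem line {p : P} (hp : p ≠ 1) : Nat.card (Subgroup.zpowers p) = 5 := by rw [Nat.card_zpowers, E.ord hp]

theorem line_eq {H : Subgroup P} (hH : Nat.card H = 5) {w : P} (hw : w ∈ H) (hw1 : w ≠ 1) :
    Subgroup.zpowers w = H :=
  Subgroup.eq_of_le_of_card_ge (Subgroup.zpowers_le.2 hw) (by rw [hH, E.line hw1])

theorem exists_gen {H : Subgroup P} (hH : Nat.card H = 5) : ∃ w, w ≠ 1 ∧ Subgroup.zpowers w = H := by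
  haveI : Nontrivial H := Finite.one_lt_card_iff_nontrivial.1 (by rw [hH]; norm_num)
  obtain ⟨⟨w, hw⟩, h1⟩ := exists_ne (1 : H)
  have hw1 : w ≠ 1 := fun e => h1 (Subtype.ext e)
  exact ⟨w, hw1, E.line_eq hH hw hw1⟩

theorem pow_inj {p : P} (hp : p ≠ 1) {i j : ℕ} (h : p ^ i = p ^ j) : i % 5 = j % 5 := by
  have := pow_eq_pow_iff_modEq.1 h
  rwa [E.ord hp] at this

theorem pair_inj {u v : P} (hu : u ≠ 1) (hv : v ∉ Subgroup.zpowers u) {i j k l : ℕ}
    (h : u ^ i * v ^ j = u ^ k * v ^ l) : i % 5 = k % 5 ∧ j % 5 = l % 5 := by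
  have hmem : (v ^ j)⁻¹ ∈ Subgroup.zpowers u ↔ v ^ j ∈ Subgroup.zpowers u := inv_mem_iff
  have hd : v ^ (j + 4 * l) ∈ Subgroup.zpowers u := by
    have e : v ^ (j + 4 * l) = (u ^ i)⁻¹ * u ^ k := by
      have h2 : v ^ j = (u ^ i)⁻¹ * u ^ k * v ^ l := by rw [mul_assoc, ← h, inv_mul_cancel_left]
      rw [pow_add, h2, mul_assoc, ← pow_add, show l + 4 * l = 5 * l by ring, pow_mul, E.pow, one_pow, mul_one]
    rw [e]
    exact mul_mem (inv_mem (Subgroup.npow_mem_zpowers u i)) (Subgroup.npow_mem_zpowers u k)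
  have hz : (j + 4 * l) % 5 = 0 := by
    by_contra hn
    obtain ⟨m, hm⟩ : ∃ m, (j + 4 * l) * m % 5 = 1 := by
      have := Nat.mod_lt (j + 4 * l) (by norm_num : 5 > 0)
      generalize hr : (j + 4 * l) % 5 = r at hn this
      interval_cases r
      · exact absurd rfl hn
      · exact ⟨1, by omega⟩
      · exact ⟨3, by omega⟩
      · exact ⟨2, by omega⟩
      · exact ⟨4, by omega⟩
    refine hv ?_
    have := pow_mem hd m
    rwa [← pow_mul, ← E.pow_mod, hm, pow_one] at this
  have hjl : j % 5 = l % 5 := by omega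
  refine ⟨E.pow_inj hu ?_, hjl⟩
  rw [← E.pow_mod v j, ← E.pow_mod v l, hjl] at h
  exact mul_right_cancel h

theorem pair_surj {u v : P} (hu : u ≠ 1) (hv : v ∉ Subgroup.zpowers u) (w : P) :
    ∃ i j : ℕ, i < 5 ∧ j < 5 ∧ w = u ^ i * v ^ j := by
  have hinj : Function.Injective (fun q : Fin 5 × Fin 5 => u ^ (q.1 : ℕ) * v ^ (q.2 : ℕ)) := fun q r h => by
    obtain ⟨h1, h2⟩ := E.pair_inj hu hv h
    have := q.1.2; have := r.1.2; have := q.2.2; have := r.2.2
    exact Prod.ext (Fin.ext (by omega)) (Fin.ext (by omega))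
  obtain ⟨q, hq⟩ := ((Nat.bijective_iff_injective_and_card _).2 ⟨hinj, by
    rw [E.card, Nat.card_prod, Nat.card_fin]⟩).2 w
  exact ⟨q.1, q.2, q.1.2, q.2.2, hq.symm⟩

theorem lines_le : Nat.card (Lines P) ≤ 6 := by
  classical
  haveI : Nontrivial P := Finite.one_lt_card_iff_nontrivial.1 (by rw [E.card]; norm_num)
  obtain ⟨u, hu⟩ := exists_ne (1 : P)
  obtain ⟨v, -, hv⟩ : ∃ v ∈ (⊤ : Subgroup P), v ∉ Subgroup.zpowers u :=
    SetLike.exists_of_lt (lt_top_iff_ne_top.2 fun e => by
      have := E.line hu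
      rw [e, Subgroup.card_top, E.card] at this
      norm_num at this)
  have hne : ∀ i : Fin 5, u ^ (i : ℕ) * v ≠ 1 := fun i h => hv (by
    rw [eq_inv_of_mul_eq_one_right h]; exact inv_mem (Subgroup.npow_mem_zpowers u i))
  let f : Option (Fin 5) → Lines P := fun o => o.elim ⟨Subgroup.zpowers u, E.line hu⟩
    fun i => ⟨Subgroup.zpowers (u ^ (i : ℕ) * v), E.line (hne i)⟩
  have hf : Function.Surjective f := by
    rintro ⟨H, hH⟩
    obtain ⟨w, hw1, rfl⟩ := E.exists_gen hH
    obtain ⟨i, j, hi, hj, e⟩ := E.pair_surj hu hv w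
    by_cases hj0 : j = 0
    · subst hj0
      rw [pow_zero, mul_one] at e
      exact ⟨none, Subtype.ext (E.line_eq (E.line hu) (e ▸ Subgroup.npow_mem_zpowers u i) hw1).symm⟩
    · obtain ⟨m, hm⟩ : ∃ m, j * m % 5 = 1 := by
        interval_cases j
        · exact absurd rfl hj0
        · exact ⟨1, rfl⟩
        · exact ⟨3, rfl⟩
        · exact ⟨2, rfl⟩
        · exact ⟨4, rfl⟩
      refine ⟨some ⟨i * m % 5, Nat.mod_lt _ (by norm_num)⟩, Subtype.ext ?_⟩
      show Subgroup.zpowers (u ^ (i * m % 5) * v) = Subgroup.zpowers w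
      have e2 : w ^ m = u ^ (i * m % 5) * v := by
        rw [e, (E.comm _ _).mul_pow, ← pow_mul, ← pow_mul, ← E.pow_mod v, hm, pow_one, E.pow_mod]
      exact E.line_eq (E.line hw1) (e2 ▸ Subgroup.npow_mem_zpowers w m) (hne ⟨i * m % 5, Nat.mod_lt _ (by norm_num)⟩)
  refine (Nat.card_le_card_of_surjective f hf).trans ?_
  simp

end Elem25

/-- the action on lines -/
instance lineAct (A : Subgroup (MulAut P)) : MulAction A (Lines P) where
  smul a H := ⟨H.1.map (a : MulAut P).toMonoidHom, by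
    rw [Subgroup.card_map_of_injective (a : MulAut P).injective]; exact H.2⟩
  one_smul H := Subtype.ext (Subgroup.map_id H.1)
  mul_smul a c H := Subtype.ext (Subgroup.map_map H.1 (a : MulAut P).toMonoidHom (c : MulAut P).toMonoidHom).symm

theorem smul_line {A : Subgroup (MulAut P)} (a : A) (H : Lines P) :
    (a • H).1 = H.1.map (a : MulAut P).toMonoidHom := rfl

theorem stab_mem {A : Subgroup (MulAut P)} {H : Lines P} {a : A} (ha : a ∈ MulAction.stabilizer A H) {x : P}
    (hx : x ∈ H.1) : (a : MulAut P) x ∈ H.1 := by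
  have h : (a • H).1 = H.1 := congrArg Subtype.val ha
  rw [smul_line] at h
  exact h ▸ Subgroup.mem_map_of_mem _ hx

/-- the restriction to a fixed line -/
def restrictLine {A : Subgroup (MulAut P)} (H : Lines P) : MulAction.stabilizer A H →* MulAut H.1 where
  toFun a :=
    { toFun := fun x => ⟨((a : A) : MulAut P) x, stab_mem a.2 x.2⟩
      invFun := fun x => ⟨((a⁻¹ : MulAction.stabilizer A H) : A).1 x, stab_mem (a⁻¹).2 x.2⟩
      left_inv := fun x => Subtype.ext (MulEquiv.symm_apply_apply ((a : A) : MulAut P) (x : P))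
      right_inv := fun x => Subtype.ext (MulEquiv.apply_symm_apply ((a : A) : MulAut P) (x : P))
      map_mul' := fun x y => Subtype.ext (map_mul ((a : A) : MulAut P) (x : P) y) }
  map_one' := MulEquiv.ext fun _ => rfl
  map_mul' _ _ := MulEquiv.ext fun _ => rfl

theorem card_mulAut_five {X : Type u} [Group X] [Finite X] (h : Nat.card X = 5) :
    Nat.card (MulAut X) = 4 ∧ IsCyclic (MulAut X) := by
  haveI : Fact (Nat.Prime 5) := ⟨by norm_num⟩
  haveI : IsCyclic X := isCyclic_of_prime_card h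
  refine ⟨by rw [IsCyclic.card_mulAut, h]; rfl, ?_⟩
  haveI : IsCyclic (ZMod (Nat.card X))ˣ := by rw [h]; infer_instance
  exact isCyclic_of_surjective (IsCyclic.mulAutMulEquiv X).symm.toMonoidHom (IsCyclic.mulAutMulEquiv X).symm.surjective

/-- the standing assumptions on the group of automorphisms -/
structure Two25 (A : Subgroup (MulAut P)) (b b1 : P) : Prop where
  elem : Elem25 P
  mod : Nat.card A % 5 = 4
  hb : b ≠ 1
  hb1 : b1 ≠ 1
  fix : ∃ a ∈ A, a ≠ 1 ∧ (a : MulAut P) b = b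
  sq : ∃ a ∈ A, (a : MulAut P) b = b ^ 2
  sep : ∀ a ∈ A, ∀ i : ℕ, (a : MulAut P) b ≠ b1 ^ i

namespace Two25

variable {A : Subgroup (MulAut P)} {b b1 : P} (T : Two25 A b b1)
include T

/-- the first line -/
def la : Lines P := ⟨Subgroup.zpowers b, T.elem.line T.hb⟩

theorem five_one {a : A} (h : a ^ 5 = 1) : a = 1 := by
  refine orderOf_eq_one_iff.1 (Nat.eq_one_of_dvd_coprimes ?_ (orderOf_dvd_of_pow_eq_one h) (orderOf_dvd_natCard a))
  exact (by norm_num : Nat.Prime 5).coprime_iff_not_dvd.2 fun e => by have := T.mod; omega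

/-- the stabiliser of a line has order dividing sixteen -/
theorem stab_sixteen (H : Lines P) : Nat.card (MulAction.stabilizer A H) ∣ 16 := by
  classical
  haveI : Fact (Nat.Prime 5) := ⟨by norm_num⟩
  set r := restrictLine (A := A) H with hr
  obtain ⟨u, hu, huH⟩ := T.elem.exists_gen H.2
  obtain ⟨v, -, hv⟩ : ∃ v ∈ (⊤ : Subgroup P), v ∉ H.1 :=
    SetLike.exists_of_lt (lt_top_iff_ne_top.2 fun e => by
      have := H.2
      rw [e, Subgroup.card_top, T.elem.card] at this
      norm_num at this)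
  haveI : H.1.Normal := ⟨fun n hn g => by rwa [(T.elem.comm g n).eq, mul_inv_cancel_right]⟩
  have hmap : ∀ a : MulAction.stabilizer A H, H.1.map ((a : A) : MulAut P).toMonoidHom = H.1 := fun a =>
    congrArg Subtype.val a.2
  let ψ : r.ker →* MulAut (P ⧸ H.1) :=
    { toFun := fun a => QuotientGroup.congr H.1 H.1 (((a : MulAction.stabilizer A H) : A) : MulAut P) (hmap a)
      map_one' := MulEquiv.ext fun x => QuotientGroup.induction_on x fun _ => rfl
      map_mul' := fun _ _ => MulEquiv.ext fun x => QuotientGroup.induction_on x fun _ => rfl }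
  have hψ : ψ.ker = ⊥ := (Subgroup.eq_bot_iff_forall _).2 fun a ha => by
    set α : MulAut P := (((a : MulAction.stabilizer A H) : A) : MulAut P) with hα
    have hu' : α u = u := congrArg Subtype.val
      (DFunLike.congr_fun (a.2 : r (a : MulAction.stabilizer A H) = 1) (⟨u, huH ▸ Subgroup.mem_zpowers u⟩ : H.1))
    have hv' : v⁻¹ * α v ∈ H.1 :=
      QuotientGroup.eq.1 (DFunLike.congr_fun (ha : ψ a = 1) (QuotientGroup.mk v : P ⧸ H.1)).symm
    rw [← huH, ← mem_powers_iff_mem_zpowers] at hv'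
    obtain ⟨i, hi⟩ := hv'
    simp only at hi
    have hav : α v = v * u ^ i := by rw [hi, mul_inv_cancel_left]
    have hn : ∀ n : ℕ, (α ^ n) v = v * u ^ (n * i) ∧ (α ^ n) u = u := by
      intro n
      induction n with
      | zero => simp
      | succ n ih =>
        rw [pow_succ', MulAut.mul_apply, MulAut.mul_apply, ih.1, ih.2, map_mul, map_pow, hu', hav, mul_assoc,
          ← pow_add, show i + n * i = (n + 1) * i by ring]
        exact ⟨rfl, rfl⟩
    have h5 : α ^ 5 = 1 := MulEquiv.ext fun w => by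
      obtain ⟨k, l, -, -, e⟩ := T.elem.pair_surj hu (huH.symm ▸ hv) w
      rw [e, map_mul, map_pow, map_pow, (hn 5).1, (hn 5).2, mul_comm 5 i, pow_mul, T.elem.pow, mul_one]
      rfl
    exact Subtype.ext (Subtype.ext (T.five_one (Subtype.ext h5)))
  have h1 : Nat.card r.ker ∣ 4 := by
    have hq : Nat.card (P ⧸ H.1) = 5 := by
      have h := Subgroup.card_eq_card_quotient_mul_card_subgroup H.1
      rw [T.elem.card, H.2] at h
      omega
    rw [← (card_mulAut_five hq).1]
    exact Subgroup.card_dvd_of_injective ψ ((MonoidHom.ker_eq_bot_iff _).1 hψ)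
  have h2 : Nat.card r.range ∣ 4 := by
    rw [← (card_mulAut_five H.2).1]; exact r.range.card_subgroup_dvd_card
  rw [Subgroup.card_eq_card_quotient_mul_card_subgroup r.ker,
    Nat.card_congr (QuotientGroup.quotientKerEquivRange r).toEquiv]
  exact Nat.mul_dvd_mul h2 h1

theorem stab_la_ge : 8 ≤ Nat.card (MulAction.stabilizer A T.la) := by
  classical
  set r := restrictLine (A := A) T.la with hr
  have hst : ∀ {a : A} {i : ℕ}, (a : MulAut P) b = b ^ i → a ∈ MulAction.stabilizer A T.la := fun {a i} h => by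
    refine Subtype.ext (Subgroup.eq_of_le_of_card_ge ?_ (by
      rw [smul_line, Subgroup.card_map_of_injective (a : MulAut P).injective]))
    rw [smul_line, show T.la.1 = Subgroup.zpowers b from rfl, Subgroup.map_le_iff_le_comap, Subgroup.zpowers_le]
    show (a : MulAut P) b ∈ Subgroup.zpowers b
    rw [h]; exact Subgroup.npow_mem_zpowers b i
  obtain ⟨a, ha, ha1, hab⟩ := T.fix
  obtain ⟨c, hc, hcb⟩ := T.sq
  have hker : 2 ≤ Nat.card r.ker := by
    have hm : (⟨⟨a, ha⟩, hst (a := ⟨a, ha⟩) (hab.trans (pow_one b).symm)⟩ : MulAction.stabilizer A T.la) ∈ r.ker := by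
      refine MulEquiv.ext fun x => Subtype.ext ?_
      obtain ⟨i, hi⟩ := x.2
      show a (x : P) = x
      rw [← hi, map_zpow, hab]
    haveI : Nontrivial r.ker := ⟨⟨_, hm⟩, 1, fun e => ha1 (congrArg (fun y : r.ker => (((y : MulAction.stabilizer A T.la) : A) : MulAut P)) e)⟩
    exact Finite.one_lt_card
  have hran : 4 ≤ Nat.card r.range := by
    set γ := r ⟨⟨c, hc⟩, hst (a := ⟨c, hc⟩) hcb⟩ with hγ
    set bb : T.la.1 := ⟨b, Subgroup.mem_zpowers b⟩ with hbb
    have h1 : γ bb = bb ^ 2 := Subtype.ext hcb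
    have hval : ∀ {n : ℕ}, ((bb ^ n : T.la.1) : P) = b ^ n := fun {n} => rfl
    have h2 : (γ ^ 2) bb = bb ^ 4 := by rw [pow_two, MulAut.mul_apply, h1, map_pow, h1, ← pow_mul]
    have ho : orderOf γ = 4 := by
      refine orderOf_eq_prime_pow (p := 2) (n := 1) (fun e => ?_) ?_ |>.trans (by norm_num)
      · rw [show (2 : ℕ) ^ 1 = 2 from rfl] at e
        rw [e, MulAut.one_apply] at h2
        have := T.elem.pow_inj T.hb (i := 1) (j := 4) (by rw [pow_one, ← hval, ← h2])
        omega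
      · haveI := (card_mulAut_five T.la.2).2
        rw [show (2 : ℕ) ^ (1 + 1) = 4 from rfl, ← (card_mulAut_five T.la.2).1]
        exact pow_card_eq_one'
    rw [← ho, ← Nat.card_zpowers]
    exact Nat.le_of_dvd Nat.card_pos (Subgroup.card_dvd_of_le (Subgroup.zpowers_le.2 ⟨_, rfl⟩))
  rw [Subgroup.card_eq_card_quotient_mul_card_subgroup r.ker,
    Nat.card_congr (QuotientGroup.quotientKerEquivRange r).toEquiv]
  exact le_trans (by norm_num) (Nat.mul_le_mul hran hker)

theorem orbit_stab (H : Lines P) :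
    Nat.card (MulAction.orbit A H) * Nat.card (MulAction.stabilizer A H) = Nat.card A := by
  rw [Nat.card_coe_set_eq, ← MulAction.index_stabilizer, mul_comm, Subgroup.card_mul_index]

/-- the second line -/
def lb : Lines P := ⟨Subgroup.zpowers b1, T.elem.line T.hb1⟩

theorem orbit_disj (H : Lines P) (h1 : H ∈ MulAction.orbit A T.la) : H ∉ MulAction.orbit A T.lb := by
  intro h2
  have h : T.lb ∈ MulAction.orbit A T.la := by
    have e := MulAction.orbit_eq_iff.2 h2
    rw [← MulAction.orbit_eq_iff.2 h1, e]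
    exact MulAction.mem_orbit_self _
  obtain ⟨a, ha⟩ := h
  have hm : (a : MulAut P) b ∈ T.lb.1 := by
    rw [← show (a • T.la).1 = T.lb.1 from congrArg Subtype.val ha, smul_line]
    exact Subgroup.mem_map_of_mem _ (Subgroup.mem_zpowers b)
  rw [show T.lb.1 = Subgroup.zpowers b1 from rfl, ← mem_powers_iff_mem_zpowers] at hm
  obtain ⟨i, hi⟩ := hm
  exact T.sep a a.2 i hi.symm

theorem orbit_sum {H K : Lines P} (hd : Disjoint (MulAction.orbit A H) (MulAction.orbit A K)) :
    Nat.card (MulAction.orbit A H) + Nat.card (MulAction.orbit A K) ≤ 6 := by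
  rw [Nat.card_coe_set_eq, Nat.card_coe_set_eq, ← Set.ncard_union_eq hd]
  exact (Set.ncard_le_card _).trans T.elem.lines_le

/-- order and orbits -/
theorem counts : Nat.card A = 24 ∧ Nat.card (MulAction.orbit A T.la) = 3 ∧
    ∀ H : Lines P, 3 ≤ Nat.card (MulAction.orbit A H) := by
  have hd : Disjoint (MulAction.orbit A T.la) (MulAction.orbit A T.lb) :=
    Set.disjoint_left.2 fun H => T.orbit_disj H
  have hsum := T.orbit_sum hd
  have h1 := T.orbit_stab T.la
  have h2 := T.orbit_stab T.lb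
  have s1 := T.stab_sixteen T.la
  have s2 := T.stab_sixteen T.lb
  have s1' := T.stab_la_ge
  have hm := T.mod
  have key : Nat.card A = 24 ∧ Nat.card (MulAction.orbit A T.la) = 3 := by
    have p1 : 0 < Nat.card (MulAction.orbit A T.la) := by
      haveI : Nonempty (MulAction.orbit A T.la) := ⟨⟨_, MulAction.mem_orbit_self _⟩⟩
      exact Nat.card_pos
    have p2 : 0 < Nat.card (MulAction.orbit A T.lb) := by
      haveI : Nonempty (MulAction.orbit A T.lb) := ⟨⟨_, MulAction.mem_orbit_self _⟩⟩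
      exact Nat.card_pos
    have b1' := Nat.le_of_dvd (by norm_num) s1
    have b2' := Nat.le_of_dvd (by norm_num) s2
    revert hsum h1 h2 s1 s2 s1' hm p1 p2 b1' b2'
    generalize Nat.card (MulAction.stabilizer A T.la) = x
    generalize Nat.card (MulAction.stabilizer A T.lb) = y
    generalize Nat.card (MulAction.orbit A T.la) = k
    generalize Nat.card (MulAction.orbit A T.lb) = l
    intros
    have hk : k < 6 := by omega
    have hl : l < 6 := by omega
    interval_cases k <;> interval_cases x <;> first | omega | (revert s1; decide) | skip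
    all_goals (interval_cases l <;> omega)
  refine ⟨key.1, key.2, fun H => ?_⟩
  have h := T.orbit_stab H
  have s := T.stab_sixteen H
  rw [key.1] at h
  have hy : Nat.card (MulAction.stabilizer A H) ∣ 24 := Dvd.intro_left _ h
  have h8 := Nat.le_of_dvd (by norm_num) (Nat.dvd_gcd s hy)
  rw [show Nat.gcd 16 24 = 8 from rfl] at h8
  nlinarith

/-- two classes of lines -/
theorem two_orbits (H : Lines P) : H ∈ MulAction.orbit A T.la ∨ H ∈ MulAction.orbit A T.lb := by
  by_contra hn
  push Not at hn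
  obtain ⟨-, ha, hall⟩ := T.counts
  have hd : ∀ K : Lines P, H ∉ MulAction.orbit A K → Disjoint (MulAction.orbit A H) (MulAction.orbit A K) :=
    fun K hK => Set.disjoint_left.2 fun X hX hX' => hK (by
      rw [← MulAction.orbit_eq_iff.2 hX', MulAction.orbit_eq_iff.2 hX]; exact MulAction.mem_orbit_self _)
  have h3 : Disjoint (MulAction.orbit A H ∪ MulAction.orbit A T.la) (MulAction.orbit A T.lb) :=
    Set.disjoint_union_left.2 ⟨hd _ hn.2, Set.disjoint_left.2 fun X => T.orbit_disj X⟩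
  have h := (Set.ncard_le_card (MulAction.orbit A H ∪ MulAction.orbit A T.la ∪ MulAction.orbit A T.lb)).trans
    T.elem.lines_le
  rw [Set.ncard_union_eq h3, Set.ncard_union_eq (hd _ hn.1), ← Nat.card_coe_set_eq, ← Nat.card_coe_set_eq,
    ← Nat.card_coe_set_eq] at h
  have := hall H
  have := hall T.lb
  omega

theorem cover {w : P} (hw : w ≠ 1) :
    ∃ a ∈ A, ∃ i : ℕ, (a : MulAut P) w = b ^ i ∨ (a : MulAut P) w = b1 ^ i := by
  have key : ∀ {c : P} (hc : c ≠ 1), (⟨Subgroup.zpowers w, T.elem.line hw⟩ : Lines P) ∈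
      MulAction.orbit A (⟨Subgroup.zpowers c, T.elem.line hc⟩ : Lines P) →
      ∃ a ∈ A, ∃ i : ℕ, (a : MulAut P) w = c ^ i := by
    intro c hc h
    obtain ⟨a, ha⟩ := h
    have hw' := congrArg Subtype.val ha
    rw [smul_line] at hw'
    obtain ⟨x, hx, hxw⟩ : w ∈ (Subgroup.zpowers c).map (a : MulAut P).toMonoidHom := hw' ▸ Subgroup.mem_zpowers w
    change (a : MulAut P) x = w at hxw
    rw [SetLike.mem_coe, ← mem_powers_iff_mem_zpowers] at hx
    obtain ⟨i, hi⟩ := hx
    refine ⟨(a⁻¹ : A), (a⁻¹).2, i, ?_⟩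
    rw [← hxw, Subgroup.coe_inv, show c ^ i = x from hi]
    exact MulEquiv.symm_apply_apply (a : MulAut P) x
  rcases T.two_orbits ⟨Subgroup.zpowers w, T.elem.line hw⟩ with h | h
  · obtain ⟨a, ha, i, hi⟩ := key T.hb h
    exact ⟨a, ha, i, Or.inl hi⟩
  · obtain ⟨a, ha, i, hi⟩ := key T.hb1 h
    exact ⟨a, ha, i, Or.inr hi⟩

/-- elements fixing the three lines are scalars -/
theorem scalar {k : A} (hk : ∀ H ∈ MulAction.orbit A T.la, k • H = H) :
    ∃ i : ℕ, ∀ w : P, (k : MulAut P) w = w ^ i := by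
  classical
  obtain ⟨-, hc, -⟩ := T.counts
  obtain ⟨B2, hB2, hB2ne⟩ : ∃ H ∈ MulAction.orbit A T.la, H ≠ T.la := by
    by_contra hn
    push Not at hn
    have e : MulAction.orbit A T.la = {T.la} :=
      Set.eq_singleton_iff_unique_mem.2 ⟨MulAction.mem_orbit_self _, hn⟩
    have : (MulAction.orbit A T.la).ncard ≤ 1 := by rw [e, Set.ncard_singleton]
    rw [← Nat.card_coe_set_eq, hc] at this
    omega
  obtain ⟨B3, hB3, h31, h32⟩ : ∃ H ∈ MulAction.orbit A T.la, H ≠ T.la ∧ H ≠ B2 := by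
    by_contra hn
    push Not at hn
    have : (MulAction.orbit A T.la).ncard ≤ ({T.la, B2} : Set (Lines P)).ncard :=
      Set.ncard_le_ncard (fun H hH => by
        by_cases e : H = T.la
        · exact Or.inl e
        · exact Or.inr (hn H hH e))
    rw [← Nat.card_coe_set_eq, hc, Set.ncard_pair hB2ne.symm] at this
    omega
  have himg : ∀ (H : Lines P) (u : P), H ∈ MulAction.orbit A T.la → u ∈ H.1 → Subgroup.zpowers u = H.1 →
      ∃ i : ℕ, (k : MulAut P) u = u ^ i := fun H u hH hu e => by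
    have hm := stab_mem (MulAction.mem_stabilizer_iff.2 (hk H hH)) hu
    rw [← e, ← mem_powers_iff_mem_zpowers] at hm
    obtain ⟨i, hi⟩ := hm
    exact ⟨i, hi.symm⟩
  obtain ⟨i, hi⟩ := himg T.la b (MulAction.mem_orbit_self _) (Subgroup.mem_zpowers b) rfl
  obtain ⟨p2, hp2, e2⟩ := T.elem.exists_gen B2.2
  obtain ⟨p3, hp3, e3⟩ := T.elem.exists_gen B3.2
  obtain ⟨j, hj⟩ := himg B2 p2 hB2 (e2 ▸ Subgroup.mem_zpowers p2) e2
  obtain ⟨l, hl⟩ := himg B3 p3 hB3 (e3 ▸ Subgroup.mem_zpowers p3) e3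
  have hv : p2 ∉ Subgroup.zpowers b := fun h =>
    hB2ne (Subtype.ext (e2.symm.trans (T.elem.line_eq (T.elem.line T.hb) h hp2)))
  obtain ⟨x, y, hx, hy, e⟩ := T.elem.pair_surj T.hb hv p3
  have hx0 : x ≠ 0 := fun hx0 => h32 (Subtype.ext (e3.symm.trans
    (T.elem.line_eq B2.2 (by rw [← e2, e, hx0, pow_zero, one_mul]; exact Subgroup.npow_mem_zpowers p2 y) hp3)))
  have hy0 : y ≠ 0 := fun hy0 => h31 (Subtype.ext (e3.symm.trans
    (T.elem.line_eq T.la.2 (by rw [e, hy0, pow_zero, mul_one]; exact Subgroup.npow_mem_zpowers b x) hp3)))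
  have hh : b ^ (i * x) * p2 ^ (j * y) = b ^ (x * l) * p2 ^ (y * l) := by
    have h := hl
    rw [e, map_mul, map_pow, map_pow, hi, hj, ← pow_mul, ← pow_mul, (T.elem.comm _ _).mul_pow, ← pow_mul,
      ← pow_mul] at h
    exact h
  obtain ⟨c1, c2⟩ := T.elem.pair_inj T.hb hv hh
  have hij : i % 5 = j % 5 := by
    have cancel : ∀ a c d : ℕ, c < 5 → c ≠ 0 → a * c % 5 = c * d % 5 → a % 5 = d % 5 := by
      intro a c d h1 h0 h
      interval_cases c <;> omega
    rw [cancel i x l hx hx0 c1, cancel j y l hy hy0 c2]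
  refine ⟨i, fun w => ?_⟩
  obtain ⟨m, n, -, -, ew⟩ := T.elem.pair_surj T.hb hv w
  rw [ew, map_mul, map_pow, map_pow, hi, hj, (T.elem.comm _ _).mul_pow, ← pow_mul, ← pow_mul, ← pow_mul,
    ← pow_mul, mul_comm m i, mul_comm n i]
  congr 1
  rw [← T.elem.pow_mod p2, ← T.elem.pow_mod p2 (i * n), Nat.mul_mod, ← hij, ← Nat.mul_mod]

/-- the isomorphism type -/
theorem iso : Nonempty (A ≃* Multiplicative (ZMod 4) × Equiv.Perm (Fin 3)) := by
  classical
  obtain ⟨hA, hc, -⟩ := T.counts
  set O := MulAction.orbit A T.la with hO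
  let e3 : O ≃ Fin 3 := Finite.equivFinOfCardEq hc
  let f : A →* Equiv.Perm (Fin 3) := e3.permCongrHom.toMonoidHom.comp (MulAction.toPermHom A O)
  set K := f.ker with hK
  have hKmem : ∀ k, k ∈ K → ∀ H ∈ O, k • H = H := fun k hk H hH => by
    have h1 : MulAction.toPermHom A O k = 1 := e3.permCongrHom.injective ((MonoidHom.mem_ker.1 hk).trans (map_one _).symm)
    exact congrArg Subtype.val (DFunLike.congr_fun h1 (⟨H, hH⟩ : O))
  have hstab : K ≤ MulAction.stabilizer A T.la := fun k hk => hKmem k hk _ (MulAction.mem_orbit_self _)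
  let rK : K →* MulAut T.la.1 := (restrictLine T.la).comp (Subgroup.inclusion hstab)
  have hfixb : ∀ k : A, k ∈ K → (k : MulAut P) b = b → k = 1 := fun k hk hkb => by
    obtain ⟨i, hi⟩ := T.scalar (hKmem k hk)
    have h1 := T.elem.pow_inj T.hb (i := i) (j := 1) (by rw [pow_one, ← hi, hkb])
    refine Subtype.ext (MulEquiv.ext fun w => ?_)
    rw [hi, ← T.elem.pow_mod w, h1, T.elem.pow_mod, pow_one]
    rfl
  have hrK : Function.Injective rK := (injective_iff_map_eq_one _).2 fun k hk => Subtype.ext (hfixb k k.2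
    (congrArg Subtype.val (DFunLike.congr_fun hk (⟨b, Subgroup.mem_zpowers b⟩ : T.la.1))))
  obtain ⟨h4, hcy⟩ := card_mulAut_five T.la.2
  haveI := hcy
  haveI : IsCyclic K := isCyclic_of_injective rK hrK
  have hsplit := Subgroup.card_eq_card_quotient_mul_card_subgroup K
  rw [hA, hK, Nat.card_congr (QuotientGroup.quotientKerEquivRange f).toEquiv, ← hK] at hsplit
  have hperm : Nat.card (Equiv.Perm (Fin 3)) = 6 := by rw [Nat.card_perm, Nat.card_fin]; rfl
  have hK4 : Nat.card K ≤ 4 := h4 ▸ Nat.card_le_card_of_injective rK hrK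
  have hR6 : Nat.card f.range ≤ 6 := hperm ▸ Nat.le_of_dvd Nat.card_pos f.range.card_subgroup_dvd_card
  have hcK : Nat.card K = 4 := by nlinarith
  have hcR : Nat.card f.range = 6 := by rw [hcK] at hsplit; omega
  have hcentral : ∀ k ∈ K, ∀ a : A, k * a = a * k := fun k hk a => by
    obtain ⟨i, hi⟩ := T.scalar (hKmem k hk)
    refine Subtype.ext (MulEquiv.ext fun w => ?_)
    show (k : MulAut P) ((a : MulAut P) w) = (a : MulAut P) ((k : MulAut P) w)
    rw [hi, hi, map_pow]
  haveI : Fact (Nat.Prime 2) := ⟨Nat.prime_two⟩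
  haveI : Fact (Nat.Prime 3) := ⟨Nat.prime_three⟩
  obtain ⟨ρ, hρ⟩ := exists_prime_orderOf_dvd_card' (G := A) 3 (by rw [hA]; norm_num)
  obtain ⟨s, hs, hsK⟩ : ∃ s : A, orderOf s = 2 ∧ s ∉ K := by
    let Fb : Subgroup A :=
      { carrier := {a | (a : MulAut P) b = b}
        one_mem' := rfl
        mul_mem' := fun {x y} hx hy => by
          show (x : MulAut P) ((y : MulAut P) b) = b
          rw [show (y : MulAut P) b = b from hy]; exact hx
        inv_mem' := fun {x} hx => by
          show (x : MulAut P).symm b = b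
          rw [MulEquiv.symm_apply_eq]; exact hx.symm }
    obtain ⟨a, ha, ha1, hab⟩ := T.fix
    have hFb : Fb ≤ MulAction.stabilizer A T.la := fun x hx => by
      refine Subtype.ext (Subgroup.eq_of_le_of_card_ge ?_ (by
        rw [smul_line, Subgroup.card_map_of_injective (x : MulAut P).injective]))
      rw [smul_line, show T.la.1 = Subgroup.zpowers b from rfl, Subgroup.map_le_iff_le_comap, Subgroup.zpowers_le]
      show (x : MulAut P) b ∈ Subgroup.zpowers b
      rw [show (x : MulAut P) b = b from hx]; exact Subgroup.mem_zpowers b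
    obtain ⟨l, -, hl⟩ := (Nat.dvd_prime_pow Nat.prime_two).1
      ((Subgroup.card_dvd_of_le hFb).trans (T.stab_sixteen T.la) : Nat.card Fb ∣ 2 ^ 4)
    haveI : Nontrivial Fb := ⟨⟨⟨a, ha⟩, hab⟩, 1, fun e => ha1 (congrArg (fun y : Fb => ((y : A) : MulAut P)) e)⟩
    have h2 : 2 ∣ Nat.card Fb := by
      rw [hl]
      refine dvd_pow_self 2 fun e => ?_
      rw [e, pow_zero] at hl
      exact (Finite.one_lt_card (α := Fb)).ne' hl
    obtain ⟨s, hs⟩ := exists_prime_orderOf_dvd_card' (G := Fb) 2 h2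
    refine ⟨s, by rw [Subgroup.orderOf_coe, hs], fun h => ?_⟩
    rw [← Subgroup.orderOf_coe, hfixb _ h s.2, orderOf_one] at hs
    norm_num at hs
  have hρK : ρ ∉ K := fun h => by
    have := Subgroup.orderOf_dvd_natCard _ h
    rw [hρ, hcK] at this
    norm_num at this
  set R := Subgroup.zpowers (f ρ) with hR
  have hfρ : orderOf (f ρ) = 3 := orderOf_eq_prime
    (by rw [← map_pow, orderOf_dvd_iff_pow_eq_one.1 (dvd_of_eq hρ), map_one]) hρK
  have hfs : orderOf (f s) = 2 := orderOf_eq_prime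
    (by rw [← map_pow, orderOf_dvd_iff_pow_eq_one.1 (dvd_of_eq hs), map_one]) hsK
  have hR2 : R.index = 2 := by
    have h := R.card_mul_index
    rw [Nat.card_zpowers, hfρ, hperm] at h
    omega
  haveI := Subgroup.normal_of_index_eq_two hR2
  have hsρ : s * ρ * s⁻¹ ∈ Subgroup.zpowers ρ := by
    have h : f (s * ρ * s⁻¹) ∈ R := by
      rw [map_mul, map_mul, map_inv]; exact Subgroup.Normal.conj_mem inferInstance _ (Subgroup.mem_zpowers _) _
    obtain ⟨i, hi⟩ := h
    have hk : (ρ ^ i)⁻¹ * (s * ρ * s⁻¹) ∈ K := by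
      rw [hK, MonoidHom.mem_ker, map_mul, map_inv, map_zpow, show f ρ ^ i = f (s * ρ * s⁻¹) from hi, inv_mul_cancel]
    set k := (ρ ^ i)⁻¹ * (s * ρ * s⁻¹) with hkdef
    have h3 : (s * ρ * s⁻¹) ^ 3 = 1 := by
      rw [conj_pow, orderOf_dvd_iff_pow_eq_one.1 (dvd_of_eq hρ)]; group
    have h3' : (ρ ^ i) ^ 3 = 1 := by
      rw [← zpow_natCast, ← zpow_mul, mul_comm, zpow_mul, zpow_natCast,
        orderOf_dvd_iff_pow_eq_one.1 (dvd_of_eq hρ), one_zpow]
    have hk3 : k ^ 3 = 1 := by
      have hkρ : Commute (ρ ^ i) k := (hcentral k hk _).symm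
      have e : (ρ ^ i * k) ^ 3 = 1 := by rw [hkdef, mul_inv_cancel_left]; exact h3
      rwa [hkρ.mul_pow, h3', one_mul] at e
    have hk1 : k = 1 := orderOf_eq_one_iff.1 (Nat.eq_one_of_dvd_coprimes (by norm_num : Nat.Coprime 3 4)
      (orderOf_dvd_of_pow_eq_one hk3) (hcK ▸ Subgroup.orderOf_dvd_natCard _ hk))
    rw [hkdef] at hk1
    rw [← inv_mul_eq_one.1 hk1]
    exact ⟨i, rfl⟩
  set M := Subgroup.zpowers ρ ⊔ Subgroup.zpowers s with hM
  have hMcard : Nat.card M ≤ 6 := by
    have hn : Subgroup.zpowers s ≤ Subgroup.normalizer (Subgroup.zpowers ρ : Set A) := by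
      rw [Subgroup.zpowers_le]
      refine Subgroup.mem_normalizer_iff.2 fun y => ⟨fun hy => ?_, fun hy => ?_⟩
      · obtain ⟨i, rfl⟩ := hy
        show s * ρ ^ i * s⁻¹ ∈ _
        rw [← conj_zpow]; exact zpow_mem hsρ i
      · obtain ⟨i, hi⟩ := hy
        have hss : s * s = 1 := by rw [← pow_two]; exact orderOf_dvd_iff_pow_eq_one.1 (dvd_of_eq hs)
        rw [show y = s * (ρ ^ i) * s⁻¹ by
          rw [show ρ ^ i = s * y * s⁻¹ from hi, show s * (s * y * s⁻¹) * s⁻¹ = s * s * y * (s * s)⁻¹ by group, hss]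
          group, ← conj_zpow]
        exact zpow_mem hsρ i
    show Nat.card (M : Set A) ≤ 6
    rw [hM, Subgroup.coe_mul_of_right_le_normalizer_left _ _ hn]
    exact Set.natCard_mul_le.trans (le_of_eq (by
      rw [SetLike.coe_sort_coe, SetLike.coe_sort_coe, Nat.card_zpowers, Nat.card_zpowers, hρ, hs]))
  let fM : M →* Equiv.Perm (Fin 3) := f.comp M.subtype
  have hsurj : Function.Surjective fM := by
    rw [← MonoidHom.range_eq_top]
    refine Subgroup.eq_top_of_card_eq _ (Nat.dvd_antisymm fM.range.card_subgroup_dvd_card ?_)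
    rw [hperm, show 6 = 3 * 2 from rfl]
    refine Nat.Coprime.mul_dvd_of_dvd_of_dvd (by norm_num) ?_ ?_
    · have hmem : f ρ ∈ fM.range := ⟨⟨ρ, Subgroup.mem_sup_left (Subgroup.mem_zpowers ρ)⟩, rfl⟩
      have h := Subgroup.orderOf_dvd_natCard _ hmem
      rwa [hfρ] at h
    · have hmem : f s ∈ fM.range := ⟨⟨s, Subgroup.mem_sup_right (Subgroup.mem_zpowers s)⟩, rfl⟩
      have h := Subgroup.orderOf_dvd_natCard _ hmem
      rwa [hfs] at h
  have hbij : Function.Bijective fM := (Nat.bijective_iff_surjective_and_card fM).2 ⟨hsurj, by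
    have := Nat.card_le_card_of_surjective fM hsurj
    omega⟩
  let g : K × M →* A :=
    { toFun := fun q => (q.1 : A) * (q.2 : A)
      map_one' := one_mul 1
      map_mul' := fun q r => by
        show (q.1 : A) * r.1 * ((q.2 : A) * r.2) = (q.1 : A) * q.2 * ((r.1 : A) * r.2)
        exact Commute.mul_mul_mul_comm (hcentral _ r.1.2 _) _ _ }
  have hg : Function.Bijective g := by
    refine (Nat.bijective_iff_injective_and_card g).2 ⟨(injective_iff_map_eq_one g).2 ?_, ?_⟩
    · rintro ⟨k, m⟩ h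
      have h' : (k : A) * (m : A) = 1 := h
      have hm : m = 1 := hbij.1 (by
        rw [map_one]
        have := congrArg f h'
        rwa [map_mul, map_one, (MonoidHom.mem_ker.1 k.2 : f k = 1), one_mul] at this)
      subst hm
      rw [Subgroup.coe_one, mul_one] at h'
      exact Prod.ext (Subtype.ext h') rfl
    · rw [Nat.card_prod, hcK, hA, Nat.card_congr (Equiv.ofBijective _ hbij), hperm]
  exact ⟨(MulEquiv.ofBijective g hg).symm.trans (MulEquiv.prodCongr
    (mulEquivOfCyclicCardEq (by rw [hcK, Nat.card_congr Multiplicative.toAdd, Nat.card_zmod]))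
    (MulEquiv.ofBijective fM hbij))⟩

end Two25

end Cfsg.Agent.Spor.SuzT.Five
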