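import Cfsg.Agent.Lib.Spor.SuzR.Five.FiveX
import Cfsg.Agent.Lib.Char.BSW.Two

/-!
Groups of Suzuki sporadic type: the centraliser of a five-element centralising the four-group.
-/

set_option autoImplicit false
set_option maxRecDepth 100000
set_option linter.unusedSectionVars false
set_option linter.style.haveILetI false

namespace Cfsg.Agent.Spor.SuzT.Rad

open Chk Dat
open Cfsg.Agent.Solv.CITGroups (CIT orderOf_two_iff)

universe u

variable {G : Type u} [Group G] [Finite G] {z : G} {Q : Subgroup G} {C : Ctx z Q} {L : Cfg C} {b : G} (B : L.Fiv b)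
include B

theorem Cfg.Fiv.invol_V {w d : G} (hw : w ∈ L.V) {i : ℕ} (e : d = w * b ^ i) (hd : d * d = 1) : d = w := by
  have h := hd
  rw [e, (L.Hv_V (pow_mem B.mem i) hw).mul_mul_mul_comm, L.V_sq hw, one_mul] at h
  have h5 := B.mem_pow (Subgroup.npow_mem_zpowers b i)
  rw [show 5 = 2 * 2 + 1 from rfl, pow_succ, pow_mul, pow_two (b ^ i), h, one_pow, one_mul] at h5
  rw [e, h5, mul_one]

/-- no conjugate of the central involution centralises the element -/
theorem Cfg.Fiv.no_D {d : G} (hD : IsConj z d) : ¬ Commute d b := by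
  intro hdb
  obtain ⟨hdd, hd1⟩ := D_sq C.hy hD
  have hVD : d ∉ L.V := fun h => L.V_not_D h hD
  by_cases hdt : Commute d L.t
  · obtain ⟨w, hw, i, e⟩ := B.cent_t hdt hdb
    exact hVD ((B.invol_V hw e hdd).symm ▸ hw)
  set n := orderOf (d * L.t) with hn
  have heven : Even n := by
    by_contra ho
    obtain ⟨k, hk⟩ := Nat.not_even_iff_odd.1 ho
    refine L.not_D (hD.trans ?_)
    have h := Five.refl_conj (Five.refl_inverts hdd L.sq) 0 (k + 1)
    rwa [pow_zero, mul_one, show 0 + 2 * (k + 1) = n + 1 by omega, pow_succ, hn, pow_orderOf_eq_one, one_mul,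
      ← mul_assoc, hdd, one_mul] at h
  obtain ⟨ho, hwd, hwt⟩ := S0209.result d L.t (orderOf_two_iff.2 ⟨hdd, hd1⟩) (orderOf_two_iff.2 ⟨L.sq, L.ne_one⟩) heven
  obtain ⟨hw2, hw1⟩ := orderOf_two_iff.1 ho
  set w := (d * L.t) ^ (orderOf (d * L.t) / 2) with hw
  have hwb : Commute w b := (hdb.mul_left (L.mem_Hv.1 B.mem).1.symm).pow_left _
  obtain ⟨w', hw', i, e⟩ := B.cent_t hwt hwb
  have hwV : w ∈ L.V := by rw [B.invol_V hw' e hw2]; exact hw'
  obtain ⟨v', hv', j, e'⟩ := B.cent_V hwV hw1 hwd.symm hdb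
  exact hVD ((B.invol_V hv' e' hdd).symm ▸ hv')

theorem Cfg.Fiv.not_A (c : G) : ¬ Commute (c * b * c⁻¹) z := by
  intro h
  refine B.no_D (isConj_iff.2 ⟨c⁻¹, rfl⟩ : IsConj z _) ?_
  have h2 := (Commute.conj_iff c⁻¹).2 h.symm
  rwa [show c⁻¹ * (c * b * c⁻¹) * c⁻¹⁻¹ = b by group] at h2

/-- a central factor is absorbed by a conjugation between involutions -/
theorem Cfg.Fiv.absorb {x w w' : G} (hw : w ∈ L.V) (hw' : w' ∈ L.V)
    (h : (x * w * x⁻¹) * w'⁻¹ ∈ Subgroup.zpowers b) : x * w * x⁻¹ = w' := by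
  obtain ⟨β, hβ, e⟩ : ∃ β ∈ Subgroup.zpowers b, x * w * x⁻¹ = β * w' := ⟨_, h, by group⟩
  have hc : Commute β w' := by
    obtain ⟨i, rfl⟩ := hβ
    exact (L.Hv_V B.mem hw').zpow_left i
  have h2 : β * β = 1 := by
    have h3 : (x * w * x⁻¹) * (x * w * x⁻¹) = 1 := by rw [conj_mul, L.V_sq hw]; group
    rw [e, hc.symm.mul_mul_mul_comm, L.V_sq hw', mul_one] at h3
    exact h3
  have h1 : β = 1 := by
    have := B.mem_pow hβ
    rw [show 5 = 2 * 2 + 1 from rfl, pow_succ, pow_mul, pow_two β, h2, one_pow, one_mul] at this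
    exact this
  rw [e, h1, one_mul]

/-- elements normalising the four-group, relative to a cycling element -/
theorem Cfg.Fiv.NV_dec {g : G} (hg : L.Cyc g) (hgb : Commute g b) {x : G} (hx : x ∈ L.NV) (hxb : Commute x b) :
    ∃ k : Fin 3, ∃ w ∈ L.V, ∃ i : ℕ, x = g ^ (k : ℕ) * w * b ^ i := by
  obtain ⟨k, hk⟩ : ∃ k : Fin 3, x * L.t * x⁻¹ = g ^ (k : ℕ) * L.t * (g ^ (k : ℕ))⁻¹ := by
    rcases L.NV_V hx L.t_V with e | e | e | e
    · exact absurd (conj_eq_one_iff.1 e) L.ne_one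
    · exact ⟨0, by simpa using e⟩
    · exact ⟨1, by rw [show ((1 : Fin 3) : ℕ) = 1 from rfl, pow_one, hg.1, e]⟩
    · exact ⟨2, by rw [show ((2 : Fin 3) : ℕ) = 2 from rfl, pow_two,
        show g * g * L.t * (g * g)⁻¹ = g * (g * L.t * g⁻¹) * g⁻¹ by group, hg.1, hg.2, e]⟩
  have ht : Commute ((g ^ (k : ℕ))⁻¹ * x) L.t := mul_inv_eq_iff_eq_mul.1 (by
    rw [show (g ^ (k : ℕ))⁻¹ * x * L.t * ((g ^ (k : ℕ))⁻¹ * x)⁻¹ = (g ^ (k : ℕ))⁻¹ * (x * L.t * x⁻¹) * g ^ (k : ℕ) by group,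
      hk]
    group)
  obtain ⟨w, hw, i, e⟩ := B.cent_t ht ((hgb.pow_left _).inv_left.mul_left hxb)
  exact ⟨k, w, hw, i, by rw [mul_assoc, ← e, mul_inv_cancel_left]⟩

/-- the quotient satisfies the hypotheses with a four-group centraliser -/
theorem Cfg.Fiv.bsw {g : G} (hg : L.Cyc g) (hgb : Commute g b) :
    ∃ (T S : cX b ⧸ cB b) (K : Subgroup (cX b ⧸ cB b)), Char.BSW.Ctx T S K ∧ Nat.card K = 2 ∧
      Nat.card (Subgroup.centralizer ({T} : Set (cX b ⧸ cB b))) = 4 := by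
  haveI : Fact (Nat.Prime 2) := ⟨Nat.prime_two⟩
  let q := QuotientGroup.mk' (cB b)
  have hq : ∀ {x y : cX b}, q x = q y ↔ (x : G)⁻¹ * (y : G) ∈ Subgroup.zpowers b := fun {x y} => QuotientGroup.eq
  let ι : L.V →* cX b ⧸ cB b := q.comp (Subgroup.inclusion fun w hw => B.V_X hw)
  have hι : Function.Injective ι := by
    rintro ⟨a, ha⟩ ⟨c, hc⟩ e
    exact Subtype.ext (inv_mul_eq_one.1 (B.V_b (mul_mem (inv_mem ha) hc) (hq.1 e)))
  set Vb := ι.range with hVb
  have hconj : ∀ {x : cX b} {w w' : L.V}, q x * ι w * (q x)⁻¹ = ι w' → (x : G) * w * (x : G)⁻¹ = w' := by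
    intro x w w' e
    have e' : q (x * Subgroup.inclusion (fun w hw => B.V_X hw) w * x⁻¹) = q (Subgroup.inclusion (fun w hw => B.V_X hw) w') := by
      rw [map_mul, map_mul, map_inv]; exact e
    refine B.absorb (x := (x : G)) w.2 w'.2 ?_
    have h : ((x : G) * w * (x : G)⁻¹)⁻¹ * (w' : G) ∈ Subgroup.zpowers b := hq.1 e'
    rwa [inv_eq_of_mul_eq_one_right (L.V_sq w'.2),
      ← inv_eq_of_mul_eq_one_right (show (x : G) * w * (x : G)⁻¹ * ((x : G) * w * (x : G)⁻¹) = 1 by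
        rw [conj_mul, L.V_sq w.2]; group)]
  set T := ι ⟨L.t, L.t_V⟩ with hT
  set S := ι ⟨L.v, L.v_V⟩ with hS
  have hcent : Subgroup.centralizer ({T} : Set (cX b ⧸ cB b)) = Vb := by
    refine le_antisymm (fun m hm => ?_) ?_
    · obtain ⟨x, rfl⟩ := QuotientGroup.mk'_surjective (cB b) m
      have e : q x * T * (q x)⁻¹ = T := mul_inv_eq_iff_eq_mul.2 (Subgroup.mem_centralizer_singleton_iff.1 hm)
      obtain ⟨w, hw, i, hi⟩ := B.cent_t (mul_inv_eq_iff_eq_mul.1 (hconj e)) (mem_cX.1 x.2)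
      refine ⟨⟨w, hw⟩, hq.2 ?_⟩
      show w⁻¹ * (x : G) ∈ _
      rw [hi, inv_mul_cancel_left]
      exact Subgroup.npow_mem_zpowers b i
    · rintro _ ⟨⟨w, hw⟩, rfl⟩
      refine Subgroup.mem_centralizer_singleton_iff.2 ?_
      rw [hT, ← map_mul, ← map_mul]
      exact congrArg ι (Subtype.ext (L.V_comm hw L.t_V).eq)
  have hcV : Nat.card Vb = 4 := by
    rw [← L.card_V]; exact (Nat.card_congr (MonoidHom.ofInjective hι).toEquiv).symm
  have hTo : orderOf T = 2 := by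
    rw [hT, orderOf_injective ι hι, ← Subgroup.orderOf_coe]; exact orderOf_two_iff.2 ⟨L.sq, L.ne_one⟩
  have hv1 : L.v ≠ 1 := Cfg.v_ne_one (L := L)
  have hSo : orderOf S = 2 := by
    rw [hS, orderOf_injective ι hι, ← Subgroup.orderOf_coe]; exact orderOf_two_iff.2 ⟨L.v_sq, hv1⟩
  -- the image of the four-group is a Sylow subgroup
  have hsyl : Tw.RelSyl Vb ⊤ := by
    refine Tw.RelSyl.of_normal le_top (IsPGroup.of_card (n := 2) hcV) fun m _ hm2 hn => ?_
    obtain ⟨x, rfl⟩ := QuotientGroup.mk'_surjective (cB b) m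
    have hxNV : (x : G) ∈ L.NV := Tw.mem_normalizer_of fun w hw => by
      obtain ⟨w', hw'⟩ := (Subgroup.mem_normalizer_iff.1 hn (ι ⟨w, hw⟩)).1 ⟨_, rfl⟩
      have := hconj (x := x) (w := ⟨w, hw⟩) hw'.symm
      rw [this]; exact w'.2
    obtain ⟨k, w, hw, i, e⟩ := B.NV_dec hg hgb hxNV (mem_cX.1 x.2)
    obtain ⟨n, hn2⟩ := hm2
    have hpow : ∀ N : ℕ, N % 3 = 1 → 2 ^ n ∣ N → ∀ y : G, L.Cyc y → (∀ h : y ∈ cX b, q ⟨y, h⟩ ^ N ≠ 1) := by
      intro N hN hdvd y hy h e1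
      rw [← map_pow] at e1
      have e2 : (⟨y, h⟩ : cX b) ^ N ∈ cB b := (QuotientGroup.eq_one_iff _).1 e1
      obtain ⟨j, hj⟩ : y ^ N ∈ Subgroup.zpowers b := e2
      have hc := (hy.pow L hN).1
      rw [← show b ^ j = y ^ N from hj, (((L.mem_Hv.1 B.mem).1).zpow_left j).eq, mul_inv_cancel_right] at hc
      exact L.t_ne_v hc
    have h4 : ∀ r : ℕ, (4 ^ r) % 3 = 1 := fun r => by rw [Nat.pow_mod]; norm_num
    have hdv : 2 ^ n ∣ 4 ^ n := by rw [show (4 : ℕ) ^ n = 2 ^ n * 2 ^ n by rw [← mul_pow]; norm_num]; exact Dvd.intro _ rfl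
    have hx1 : q x ^ (4 ^ n) = 1 := by
      obtain ⟨r, hr⟩ := hdv
      rw [hr, pow_mul, hn2, one_pow]
    have hwb : w * b ^ i ∈ L.Hv := mul_mem (L.S₀_le_Hv (L.V_le hw)) (pow_mem B.mem i)
    fin_cases k
    · refine ⟨⟨w, hw⟩, hq.2 ?_⟩
      show w⁻¹ * (x : G) ∈ _
      rw [e]; simp only [pow_zero, one_mul, inv_mul_cancel_left]
      exact Subgroup.npow_mem_zpowers b i
    · exfalso
      simp only [pow_one] at e
      have hy : L.Cyc (x : G) := by rw [e, mul_assoc]; exact hg.mul_right L hwb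
      exact hpow _ (h4 n) hdv _ hy x.2 hx1
    · exfalso
      simp only at e
      have hy : L.Cyc ((x * x : cX b) : G) := by
        show L.Cyc ((x : G) * x)
        have hmid : (g * g)⁻¹ * (w * b ^ i) * (g * g) ∈ L.Hv := by
          have := L.NV_Hv (inv_mem (mul_mem hg.nv hg.nv)) hwb
          rwa [inv_inv] at this
        have key : ∀ a c : G, a * c * (a * c) = a * a * (a⁻¹ * c * a * c) := fun a c => by group
        rw [e, pow_two, mul_assoc (g * g) w, key]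
        refine Cfg.Cyc.mul_right L ?_ (mul_mem hmid hwb)
        rw [show g * g * (g * g) = g ^ 4 by rw [← pow_two, ← pow_two, ← pow_mul]]
        exact hg.pow L (by norm_num)
      refine hpow _ (h4 n) hdv _ hy (x * x).2 ?_
      show q (x * x) ^ (4 ^ n) = 1
      rw [map_mul, ← pow_two, ← pow_mul, mul_comm, pow_mul, hx1, one_pow]
  refine ⟨T, S, Subgroup.zpowers T, ?_, by rw [Nat.card_zpowers, hTo], by rw [hcent, hcV]⟩
  have hTT : ∀ m ∈ Subgroup.zpowers T, m = 1 ∨ m = T := by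
    intro m hm
    obtain ⟨j, rfl⟩ := hm
    rcases Int.even_or_odd j with ⟨r, rfl⟩ | ⟨r, rfl⟩
    · left; show T ^ (r + r) = 1
      rw [← two_mul, zpow_mul, zpow_two, (orderOf_two_iff.1 hTo).1, one_zpow]
    · right; show T ^ (2 * r + 1) = T
      rw [zpow_add_one, zpow_mul, zpow_two, (orderOf_two_iff.1 hTo).1, one_zpow, one_mul]
  have hST : S ∈ Subgroup.centralizer ({T} : Set (cX b ⧸ cB b)) := hcent ▸ ⟨_, rfl⟩
  have hTS : T * S = S * T := (Subgroup.mem_centralizer_singleton_iff.1 hST).symm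
  refine ⟨hTo, ?_, ?_, Subgroup.mem_zpowers T, hSo, hST, ?_, ?_, ?_, ?_, ?_, ?_⟩
  · rintro _ ⟨i, rfl⟩ _ ⟨j, rfl⟩
    exact (zpow_mul_comm T i j)
  · exact Subgroup.zpowers_le.2 (Subgroup.mem_centralizer_singleton_iff.2 rfl)
  · intro h
    rcases hTT _ h with e | e
    · have h0 : (⟨L.v, L.v_V⟩ : L.V) = 1 := hι (e.trans (map_one ι).symm)
      exact hv1 (congrArg Subtype.val h0)
    · exact L.t_ne_v (congrArg Subtype.val (hι e)).symm
  · refine le_antisymm (sup_le (Subgroup.zpowers_le.2 (Subgroup.mem_centralizer_singleton_iff.2 rfl))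
      (Subgroup.zpowers_le.2 hST)) ?_
    rw [hcent]
    rintro _ ⟨⟨w, hw⟩, rfl⟩
    have h1 : T ∈ Subgroup.zpowers T ⊔ Subgroup.zpowers S := Subgroup.mem_sup_left (Subgroup.mem_zpowers _)
    have h2 : S ∈ Subgroup.zpowers T ⊔ Subgroup.zpowers S := Subgroup.mem_sup_right (Subgroup.mem_zpowers _)
    have hw' : w ∈ L.V := hw
    rcases hw with e | e | e | e
    · rw [show (⟨w, hw'⟩ : L.V) = 1 from Subtype.ext e, map_one]; exact one_mem _
    · rw [show (⟨w, hw'⟩ : L.V) = ⟨L.t, L.t_V⟩ from Subtype.ext e]; exact h1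
    · rw [show (⟨w, hw'⟩ : L.V) = ⟨L.v, L.v_V⟩ from Subtype.ext e]; exact h2
    · rw [show (⟨w, hw'⟩ : L.V) = ⟨L.t, L.t_V⟩ * ⟨L.v, L.v_V⟩ from Subtype.ext e, map_mul]; exact mul_mem h1 h2
  · refine inf_eq_left.2 (Subgroup.zpowers_le.2 (Subgroup.mem_centralizer_singleton_iff.2 hTS))
  · intro m hm
    rcases hTT m hm with e | e <;> rw [e]
    · simp
    · rw [← hTS, mul_inv_cancel_right, inv_eq_of_mul_eq_one_right (orderOf_two_iff.1 hTo).1]
  · intro m hm
    refine (Subgroup.eq_bot_iff_forall _).2 fun c hc => ?_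
    obtain ⟨hc1, d, hd, hdc⟩ := hc
    change m * d * m⁻¹ = c at hdc
    rcases hTT c hc1 with e | e
    · exact e
    exfalso
    rcases hTT d hd with e' | e'
    · rw [e', mul_one, mul_inv_cancel] at hdc
      exact (orderOf_two_iff.1 hTo).2 (e.symm.trans hdc.symm)
    · rw [e', e] at hdc
      exact hm (Subgroup.mem_centralizer_singleton_iff.2 (mul_inv_eq_iff_eq_mul.1 hdc))
  · -- all involutions are conjugate
    suffices h : ∀ x, orderOf x = 2 → IsConj T x from fun x y hx hy => (h x hx).symm.trans (h y hy)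
    intro x hx
    obtain ⟨c, -, hc⟩ := hsyl.conj_elt (Subgroup.mem_top x) ⟨1, by rw [pow_one, ← hx, pow_orderOf_eq_one]⟩
    obtain ⟨⟨w, hw⟩, hw'⟩ := hc
    have hne : w ≠ 1 := fun e => by
      rw [show (⟨w, hw⟩ : L.V) = 1 from Subtype.ext e, map_one] at hw'
      exact (orderOf_two_iff.1 hx).2 (conj_eq_one_iff.1 hw'.symm)
    obtain ⟨k, hk⟩ : ∃ k : ℕ, g ^ k * L.t * (g ^ k)⁻¹ = w := by
      rcases hw with e | e | e | e
      · exact absurd e hne
      · exact ⟨0, by simpa using e.symm⟩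
      · exact ⟨1, by rw [pow_one, hg.1, e]⟩
      · exact ⟨2, by rw [pow_two, show g * g * L.t * (g * g)⁻¹ = g * (g * L.t * g⁻¹) * g⁻¹ by group, hg.1, hg.2, e]⟩
    have h1 : IsConj T (ι ⟨w, hw⟩) := isConj_iff.2 ⟨q ⟨g ^ k, mem_cX.2 (hgb.pow_left k)⟩, by
      rw [hT, MonoidHom.comp_apply, MonoidHom.comp_apply, ← map_inv, ← map_mul, ← map_mul]
      exact congrArg q (Subtype.ext hk)⟩
    exact h1.trans (isConj_iff.2 ⟨c⁻¹, by rw [hw']; group⟩)

theorem Cfg.Fiv.card_cB : Nat.card (cB b) = 5 := by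
  rw [cB, Nat.card_congr (Subgroup.subgroupOfEquivOfLe (Subgroup.zpowers_le.2 (mem_cX.2 (Commute.refl b)))).toEquiv,
    Nat.card_zpowers, B.ord]

/-- the centraliser modulo the element has order sixty -/
theorem Cfg.Fiv.quot_sixty : Nat.card (cX b ⧸ cB b) = 60 := by
  classical
  obtain ⟨g, hg, hgb⟩ := B.exists_g
  obtain ⟨T, S, K, h, hK, h4⟩ := B.bsw hg hgb
  haveI : Fintype (cX b ⧸ cB b) := Fintype.ofFinite _
  have hn := Char.BSW.index_three_or_fifteen h hK
  have hq := (Subgroup.centralizer ({T} : Set (cX b ⧸ cB b))).card_mul_index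
  have h25 := L.five_dvd_cX B.ord
  rw [Subgroup.card_eq_card_quotient_mul_card_subgroup (cB b), B.card_cB, ← hq, h4] at h25
  rw [← hq, h4]
  rcases hn with e | e <;> rw [e] at h25 ⊢
  exact absurd h25 (by norm_num)

theorem Cfg.Fiv.card_cX : Nat.card (cX b) = 300 := by
  rw [Subgroup.card_eq_card_quotient_mul_card_subgroup (cB b), B.quot_sixty, B.card_cB]

/-- centralisers of five-elements in the quotient -/
theorem Cfg.Fiv.quot_cent {m x : cX b ⧸ cB b} (hm : orderOf m = 5) (hx : Commute x m) :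
    x ∈ Subgroup.zpowers m := by
  classical
  haveI : Fact (Nat.Prime 5) := ⟨by norm_num⟩
  obtain ⟨g, hg, hgb⟩ := B.exists_g
  obtain ⟨T, S, K, h, hK, h4⟩ := B.bsw hg hgb
  set M := Subgroup.centralizer ({m} : Set (cX b ⧸ cB b)) with hM
  have hno : ∀ i : cX b ⧸ cB b, orderOf i = 2 → ¬ Commute i m := by
    intro i hi hc
    obtain ⟨c, hc'⟩ := isConj_iff.1 (h.conj i T hi h.t2)
    have h2 : c * m * c⁻¹ ∈ Subgroup.centralizer ({T} : Set (cX b ⧸ cB b)) :=
      Subgroup.mem_centralizer_singleton_iff.2 (hc' ▸ ((Commute.conj_iff c).2 hc).symm)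
    have h3 := Subgroup.orderOf_dvd_natCard _ h2
    rw [h4, ← MulAut.conj_apply, MulEquiv.orderOf_eq, hm] at h3
    norm_num at h3
  have hmM : m ∈ M := Subgroup.mem_centralizer_singleton_iff.2 rfl
  have h5 : 5 ∣ Nat.card M := hm ▸ Subgroup.orderOf_dvd_natCard _ hmM
  have hodd : ¬ 2 ∣ Nat.card M := fun h2 => by
    haveI : Fact (Nat.Prime 2) := ⟨Nat.prime_two⟩
    obtain ⟨⟨i, hi⟩, hio⟩ := exists_prime_orderOf_dvd_card' (G := M) 2 h2
    rw [Subgroup.orderOf_mk] at hio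
    exact hno i hio (Subgroup.mem_centralizer_singleton_iff.1 hi)
  have hd60 : Nat.card M ∣ 60 := B.quot_sixty ▸ M.card_subgroup_dvd_card
  have hcases : Nat.card M = 5 ∨ Nat.card M = 15 := by
    have hle : Nat.card M ≤ 60 := Nat.le_of_dvd (by norm_num) hd60
    revert h5 hodd hd60 hle
    generalize Nat.card M = k
    intro h5 hodd hd60 hle
    interval_cases k <;> omega
  have hM5 : Nat.card M = 5 := by
    refine hcases.resolve_right fun h15 => ?_
    obtain ⟨R, hR⟩ :=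
      (IsPGroup.of_card (n := 1) (by rw [Nat.card_zpowers, hm, pow_one]) : IsPGroup 5 (Subgroup.zpowers m)).exists_le_sylow
    have hR5 : Nat.card (R : Subgroup (cX b ⧸ cB b)) = 5 := by
      rw [R.card_eq_multiplicity, B.quot_sixty, show (60 : ℕ) = 5 ^ 1 * 12 by norm_num,
        Nat.factorization_mul (by norm_num) (by norm_num), Finsupp.add_apply,
        (by norm_num : Nat.Prime 5).factorization_pow, Finsupp.single_eq_same,
        Nat.factorization_eq_zero_of_not_dvd (by norm_num : ¬ 5 ∣ 12)]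
      norm_num
    have hRm : (R : Subgroup (cX b ⧸ cB b)) = Subgroup.zpowers m :=
      (Subgroup.eq_of_le_of_card_ge hR (by rw [hR5, Nat.card_zpowers, hm])).symm
    set N := Subgroup.normalizer ((R : Subgroup (cX b ⧸ cB b)) : Set (cX b ⧸ cB b)) with hN
    have hMN : M ≤ N := fun c hc => Tw.mem_normalizer_of fun d hd => by
      rw [hRm] at hd ⊢
      obtain ⟨j, rfl⟩ := hd
      show c * m ^ j * c⁻¹ ∈ _
      have hc' : Commute c m := Subgroup.mem_centralizer_singleton_iff.1 hc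
      rw [(hc'.zpow_right j).eq, mul_inv_cancel_right]
      exact ⟨j, rfl⟩
    have hn1 : Nat.card (Sylow 5 (cX b ⧸ cB b)) = 1 := by
      have hmod := card_sylow_modEq_one 5 (cX b ⧸ cB b)
      have hidx : Nat.card (Sylow 5 (cX b ⧸ cB b)) ∣ 4 := by
        rw [R.card_eq_index_normalizer]
        refine (Subgroup.index_dvd_of_le hMN).trans (dvd_of_eq ?_)
        have h' := M.card_mul_index
        rw [B.quot_sixty, h15] at h'
        omega
      have hle := Nat.le_of_dvd (by norm_num) hidx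
      rw [Nat.ModEq] at hmod
      revert hmod hle hidx
      generalize Nat.card (Sylow 5 (cX b ⧸ cB b)) = k
      intros
      interval_cases k <;> omega
    have hNtop : N = ⊤ := Subgroup.index_eq_one.1 (R.card_eq_index_normalizer.symm.trans hn1)
    have hinv : ∀ i : cX b ⧸ cB b, orderOf i = 2 → i * m * i⁻¹ = m⁻¹ := by
      intro i hi
      have hmem : i * m * i⁻¹ ∈ (R : Subgroup (cX b ⧸ cB b)) :=
        (Subgroup.mem_normalizer_iff.1 (hNtop ▸ Subgroup.mem_top i : i ∈ N) m).1 (hRm ▸ Subgroup.mem_zpowers m)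
      rw [hRm, ← mem_powers_iff_mem_zpowers] at hmem
      obtain ⟨j, hj⟩ := hmem
      simp only at hj
      have hjj : m ^ (j * j) = m := by
        rw [pow_mul, hj, conj_pow, hj, show i * (i * m * i⁻¹) * i⁻¹ = i * i * m * (i * i)⁻¹ by group,
          (orderOf_two_iff.1 hi).1]
        group
      have hmod : j * j % 5 = 1 := by
        have h' := (pow_eq_pow_iff_modEq (x := m) (n := j * j) (m := 1)).1 (hjj.trans (pow_one m).symm)
        rw [hm] at h'
        exact h'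
      have hj5 : j % 5 = 1 ∨ j % 5 = 4 := by
        rw [Nat.mul_mod] at hmod
        have := Nat.mod_lt j (by norm_num : 5 > 0)
        revert hmod this
        generalize j % 5 = r
        intros
        interval_cases r <;> omega
      rcases hj5 with e | e
      · exfalso
        refine hno i hi (mul_inv_eq_iff_eq_mul.1 ?_)
        rw [← hj, ← pow_mod_orderOf, hm, e, pow_one]
      · rw [← hj, ← pow_mod_orderOf, hm, e, eq_inv_iff_mul_eq_one, ← pow_succ]
        exact orderOf_dvd_iff_pow_eq_one.1 (dvd_of_eq hm)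
    have hTS : Commute T S := (Subgroup.mem_centralizer_singleton_iff.1 h.sH : Commute S T).symm
    have hU : orderOf (T * S) = 2 := by
      refine orderOf_two_iff.2 ⟨?_, fun e => h.sK ?_⟩
      · rw [hTS.symm.mul_mul_mul_comm, (orderOf_two_iff.1 h.t2).1, (orderOf_two_iff.1 h.s2).1, one_mul]
      · rw [eq_inv_of_mul_eq_one_right e]; exact inv_mem h.tK
    refine hno _ hU (mul_inv_eq_iff_eq_mul.1 ?_)
    rw [show T * S * m * (T * S)⁻¹ = T * (S * m * S⁻¹) * T⁻¹ by group, hinv S h.s2, ← conj_inv, hinv T h.t2, inv_inv]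
  have he : Subgroup.zpowers m = M := Subgroup.eq_of_le_of_card_ge (Subgroup.zpowers_le.2 hmM)
    (by rw [hM5, Nat.card_zpowers, hm])
  rw [he]
  exact Subgroup.mem_centralizer_singleton_iff.2 hx

/-- a Sylow subgroup containing the element is self-centralising -/
theorem Cfg.Fiv.cent_syl (P : Sylow 5 G) (hb : b ∈ (P : Subgroup G)) {x : G}
    (hx : ∀ p ∈ (P : Subgroup G), Commute x p) : x ∈ (P : Subgroup G) := by
  haveI : Fact (Nat.Prime 5) := ⟨by norm_num⟩
  obtain ⟨y, hy, hyb⟩ : ∃ y ∈ (P : Subgroup G), y ∉ Subgroup.zpowers b := by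
    refine SetLike.exists_of_lt ((Subgroup.zpowers_le.2 hb).lt_of_ne fun e => ?_)
    have h := L.card_syl5 P
    rw [← e, Nat.card_zpowers, B.ord] at h
    norm_num at h
  have hyX : y ∈ cX b := mem_cX.2 (L.syl5_comm P hy hb)
  have hxX : x ∈ cX b := mem_cX.2 (hx b hb)
  let q := QuotientGroup.mk' (cB b)
  have hq1 : q ⟨y, hyX⟩ ≠ 1 := fun e => hyb ((QuotientGroup.eq_one_iff (⟨y, hyX⟩ : cX b)).1 e)
  have hqo : orderOf (q ⟨y, hyX⟩) = 5 := by
    obtain ⟨j, hj⟩ := P.isPGroup' ⟨y, hy⟩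
    have hj' : y ^ 5 ^ j = 1 := congrArg Subtype.val hj
    have hd : orderOf (q ⟨y, hyX⟩) ∣ 5 ^ j := (orderOf_map_dvd q _).trans
      (orderOf_dvd_of_pow_eq_one (Subtype.ext hj' : (⟨y, hyX⟩ : cX b) ^ 5 ^ j = 1))
    obtain ⟨l, -, hl⟩ := (Nat.dvd_prime_pow (by norm_num : Nat.Prime 5)).1 hd
    have h60 := orderOf_dvd_natCard (q ⟨y, hyX⟩)
    rw [B.quot_sixty, hl] at h60
    rcases l with _ | _ | l
    · exact absurd (orderOf_eq_one_iff.1 (by rw [hl, pow_zero])) hq1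
    · rw [hl, zero_add, pow_one]
    · exfalso
      have : 25 ∣ 60 := (Dvd.intro (5 ^ l) (by ring) : 25 ∣ 5 ^ (l + 1 + 1)).trans h60
      norm_num at this
  have hc : Commute (q ⟨x, hxX⟩) (q ⟨y, hyX⟩) :=
    (show Commute (⟨x, hxX⟩ : cX b) ⟨y, hyX⟩ from Subtype.ext (hx y hy).eq).map q
  obtain ⟨i, hi⟩ := B.quot_cent hqo hc
  simp only [← map_zpow] at hi
  have h : ((⟨y, hyX⟩ : cX b) ^ i)⁻¹ * (⟨x, hxX⟩ : cX b) ∈ cB b := QuotientGroup.eq.1 hi
  obtain ⟨k, hk⟩ : (y ^ i)⁻¹ * x ∈ Subgroup.zpowers b := h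
  rw [show x = y ^ i * b ^ k by rw [show b ^ k = (y ^ i)⁻¹ * x from hk, mul_inv_cancel_left]]
  exact mul_mem (zpow_mem hy i) (zpow_mem hb k)

end Cfsg.Agent.Spor.SuzT.Rad
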