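import Cfsg.Agent.Lib.Spor.SuzR.Five.FiveM
import Cfsg.Agent.Lib.Spor.SuzR.Ord.UPart

/-!
Groups of Suzuki sporadic type: five-elements centralising the four-group.
-/

set_option autoImplicit false
set_option maxRecDepth 100000
set_option linter.unusedSectionVars false
set_option linter.style.haveILetI false

namespace Cfsg.Agent.Spor.SuzT.Rad

open Chk Dat
open Cfsg.Agent.Solv.CITGroups (CIT orderOf_two_iff)

theorem card_ker_bound {X : Type*} [Group X] [Finite X] {Y : Type*} [Group Y] [Finite Y] (f : X →* Y) :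
    Nat.card X ≤ Nat.card f.ker * Nat.card Y := by
  rw [Subgroup.card_eq_card_quotient_mul_card_subgroup f.ker,
    Nat.card_congr (QuotientGroup.quotientKerEquivRange f).toEquiv, mul_comm]
  exact Nat.mul_le_mul_left _ (Nat.le_of_dvd Nat.card_pos f.range.card_subgroup_dvd_card)

universe u

variable {G : Type u} [Group G] [Finite G] {z : G} {Q : Subgroup G} {C : Ctx z Q} (L : Cfg C)

/-- the four elements of the fourfold centre of the radical subgroup -/
def Ctx.Zel (C : Ctx z Q) : Subgroup G where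
  carrier := {g | ∃ i j, i < 2 ∧ j < 2 ∧ g = C.zel i j}
  one_mem' := ⟨0, 0, by norm_num, by norm_num, C.zel_zero.symm⟩
  mul_mem' := by
    rintro _ _ ⟨i, j, -, -, rfl⟩ ⟨k, l, -, -, rfl⟩
    exact ⟨_, _, Nat.mod_lt _ (by norm_num), Nat.mod_lt _ (by norm_num), C.zel_mul i j k l⟩
  inv_mem' := by
    rintro _ ⟨i, j, hi, hj, rfl⟩
    exact ⟨i, j, hi, hj, C.zel_inv i j⟩

theorem Ctx.card_Zel (C : Ctx z Q) : Nat.card C.Zel = 4 := by
  have e : C.Zel ≃ Fin 2 × Fin 2 := (Equiv.ofBijective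
    (fun p : Fin 2 × Fin 2 => (⟨C.zel p.1 p.2, _, _, p.1.2, p.2.2, rfl⟩ : C.Zel))
    ⟨fun p q e => by
      obtain ⟨h1, h2⟩ := C.zel_inj p.1.2 p.2.2 q.1.2 q.2.2 (congrArg Subtype.val e)
      exact Prod.ext (Fin.ext h1) (Fin.ext h2), fun g => by
      obtain ⟨_, i, j, hi, hj, rfl⟩ := g
      exact ⟨(⟨i, hi⟩, ⟨j, hj⟩), rfl⟩⟩).symm
  rw [Nat.card_congr e, Nat.card_prod, Nat.card_fin]

/-- an outer element fixes a subgroup of order four in the Sylow subgroup of the quotient -/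
theorem Cfg.fix_four {s : G} (hsS : s ∈ L.S) (hs0 : s ∉ L.S₀) (hss : s * s ∈ L.V) :
    4 ≤ Nat.card ↥(Seven.fixSub (L.phi (L.H_NV (L.S_le hsS))) ⊓ L.U) := by
  classical
  have hsx := L.out_x hsS hs0
  obtain ⟨hst, hsz⟩ := L.mem_S.1 hsS
  have hsV : s * L.v * s⁻¹ = L.t * L.v := L.out_v hsS hs0
  have hconjS : ∀ c ∈ L.S₀, s * c * s⁻¹ ∈ L.S₀ := fun c hc => by
    obtain ⟨hR, hct⟩ := L.mem_S₀.1 hc
    exact L.mem_S₀.2 ⟨(C.conj_swap hsz hsx hR).1, (hst.mul_left hct).mul_left hst.inv_left⟩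
  have hinv2 : ∀ c ∈ L.S₀, s * (s * c * s⁻¹) * s⁻¹ = c := fun c hc => by
    rw [show s * (s * c * s⁻¹) * s⁻¹ = s * s * c * (s * s)⁻¹ by group,
      (L.Hv_V (L.S₀_le_Hv hc) hss).symm.eq, mul_inv_cancel_right]
  have hZc : ∀ {a}, a ∈ C.Zel → ∀ {c}, c ∈ L.S₀ → Commute a c := by
    rintro _ ⟨i, j, -, -, rfl⟩ c hc
    obtain ⟨hR, -⟩ := L.mem_S₀.1 hc
    exact (C.zel_comm i j hR.1 hR.2.1).symm
  have hZS : C.Zel ≤ L.S₀ := by
    rintro _ ⟨i, j, -, -, rfl⟩
    exact L.zel_S₀ i j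
  have hsq : ∀ {c}, c ∈ L.S₀ → c * c ∈ C.Zel := fun {c} hc => by
    obtain ⟨i, j, hi, hj, e⟩ := L.S0_sq_zel hc
    exact ⟨i, j, hi, hj, e⟩
  set N := C.Zel.subgroupOf L.S₀ with hN
  haveI hNn : N.Normal := ⟨fun a ha g => by
    show ((g : G) * a * (g : G)⁻¹) ∈ C.Zel
    rw [(hZc (Subgroup.mem_subgroupOf.1 ha) g.2).symm.eq, mul_inv_cancel_right]; exact ha⟩
  let π := QuotientGroup.mk' N
  have hπ : ∀ a : L.S₀, π a = 1 ↔ (a : G) ∈ C.Zel := fun a => (QuotientGroup.eq_one_iff a).trans Iff.rfl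
  have hN2 : ∀ y : L.S₀ ⧸ N, y * y = 1 := fun y => by
    obtain ⟨a, rfl⟩ := QuotientGroup.mk'_surjective N y
    rw [← map_mul]; exact (hπ _).2 (hsq a.2)
  have hNcomm : ∀ y y' : L.S₀ ⧸ N, y * y' = y' * y := fun y y' => by
    have h := hN2 (y * y')
    calc y * y' = (y * y')⁻¹ := (inv_eq_of_mul_eq_one_right h).symm
      _ = y' * y := by rw [mul_inv_rev, inv_eq_of_mul_eq_one_right (hN2 y), inv_eq_of_mul_eq_one_right (hN2 y')]
  -- the twisted map
  let σc : L.S₀ →* L.S₀ :=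
    { toFun := fun c => ⟨s * (c : G) * s⁻¹, hconjS _ c.2⟩
      map_one' := Subtype.ext (by simp)
      map_mul' := fun c d => Subtype.ext (by
        show s * ((c : G) * d) * s⁻¹ = s * c * s⁻¹ * (s * d * s⁻¹)
        group) }
  let f : L.S₀ →* L.S₀ ⧸ N :=
    { toFun := fun c => π c * π (σc c)
      map_one' := by simp
      map_mul' := fun c d => by
        simp only [map_mul]
        calc π c * π d * (π (σc c) * π (σc d)) = π c * (π d * π (σc c)) * π (σc d) := by group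
          _ = π c * π (σc c) * (π d * π (σc d)) := by rw [hNcomm (π d)]; group }
  have hff : ∀ c : L.S₀, f (c * σc c) = 1 := fun c => by
    have h2 : σc (σc c) = c := Subtype.ext (hinv2 c c.2)
    show π (c * σc c) * π (σc (c * σc c)) = 1
    rw [map_mul, map_mul σc, h2, map_mul, hNcomm (π (σc c)) (π c), hN2]
  set P := f.ker with hP
  have hcS : Nat.card L.S₀ = 256 := L.toLoc.card_S₀
  have hcN : Nat.card N = 4 := by
    rw [hN, Nat.card_congr (Subgroup.subgroupOfEquivOfLe hZS).toEquiv, C.card_Zel]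
  -- the image lies in the image of the kernel
  have hrange : f.range ≤ P.map π := by
    rintro _ ⟨c, rfl⟩
    exact ⟨c * σc c, hff c, map_mul π _ _⟩
  have hzZ : z ∈ C.Zel := ⟨1, 0, by norm_num, by norm_num, by simp [Ctx.zel]⟩
  have hxZ : C.x ∈ C.Zel := ⟨0, 1, by norm_num, by norm_num, by simp [Ctx.zel]⟩
  have hNP : N ≤ P := fun a ha => by
    show π a * π (σc a) = 1
    have ha1 : π a = 1 := (hπ a).2 ha
    have ha2 : π (σc a) = 1 := (hπ _).2 (by
      have ha' : (a : G) ∈ C.Zel := ha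
      obtain ⟨i, j, hi, hj, e⟩ := ha'
      show s * (a : G) * s⁻¹ ∈ C.Zel
      have hxs : s * C.x ^ j * s⁻¹ = C.x ^ j * z ^ j := by rw [← conj_pow, hsx, C.xz.mul_pow]
      rw [e, Ctx.zel, show s * (z ^ i * C.x ^ j) * s⁻¹ = s * z ^ i * s⁻¹ * (s * C.x ^ j * s⁻¹) by group,
        (hsz.pow_right i).eq, mul_inv_cancel_right, hxs]
      exact mul_mem (pow_mem hzZ i) (mul_mem (pow_mem hxZ j) (pow_mem hzZ j)))
    rw [ha1, ha2, one_mul]
  have hP32 : 32 ≤ Nat.card P := by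
    have h1 := Subgroup.card_eq_card_quotient_mul_card_subgroup P
    rw [Nat.card_congr (QuotientGroup.quotientKerEquivRange f).toEquiv, hcS] at h1
    have h2 : Nat.card f.range ≤ Nat.card (P.map π) :=
      Nat.le_of_dvd Nat.card_pos (Subgroup.card_dvd_of_le hrange)
    have h3 : Nat.card (P.map π) * 4 = Nat.card P := by
      let g : P →* L.S₀ ⧸ N := π.comp P.subtype
      have hgr : g.range = P.map π := by rw [MonoidHom.range_comp, Subgroup.range_subtype]
      have hgk : g.ker = N.subgroupOf P := Subgroup.ext fun x => QuotientGroup.eq_one_iff (x : L.S₀)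
      rw [Subgroup.card_eq_card_quotient_mul_card_subgroup g.ker,
        Nat.card_congr (QuotientGroup.quotientKerEquivRange g).toEquiv, hgr, hgk,
        Nat.card_congr (Subgroup.subgroupOfEquivOfLe hNP).toEquiv, hcN]
    nlinarith [h1, h2, h3, Nat.zero_le (Nat.card f.range)]
  -- the commutator with the outer element
  have hPmem : ∀ c : P, ((c : L.S₀) : G)⁻¹ * (s * ((c : L.S₀) : G) * s⁻¹) ∈ C.Zel := fun c => by
    have h : π (c : L.S₀) * π (σc c) = 1 := c.2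
    have h' : π ((c : L.S₀)⁻¹ * σc c) = 1 := by
      rw [map_mul, map_inv, inv_eq_of_mul_eq_one_right (hN2 (π (c : L.S₀)))]; exact h
    exact (hπ _).1 h'
  let k : P →* C.Zel :=
    { toFun := fun c => ⟨_, hPmem c⟩
      map_one' := Subtype.ext (by simp)
      map_mul' := fun c d => Subtype.ext (by
        have key : ∀ a b : G, Commute (a⁻¹ * (s * a * s⁻¹)) b⁻¹ →
            (a * b)⁻¹ * (s * (a * b) * s⁻¹) = a⁻¹ * (s * a * s⁻¹) * (b⁻¹ * (s * b * s⁻¹)) := fun a b h => by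
          calc (a * b)⁻¹ * (s * (a * b) * s⁻¹) = b⁻¹ * (a⁻¹ * (s * a * s⁻¹)) * (s * b * s⁻¹) := by group
            _ = _ := by rw [← h.eq, mul_assoc]
        exact key _ _ (hZc (hPmem c) (inv_mem (d : L.S₀).2))) }
  have hk8 : 8 ≤ Nat.card k.ker := by
    have h := card_ker_bound k
    rw [C.card_Zel] at h
    omega
  set F := Seven.fixSub (L.phi (L.H_NV (L.S_le hsS))) ⊓ L.U with hF
  have hker : ∀ c : k.ker, s * (((c : P) : L.S₀) : G) * s⁻¹ = (((c : P) : L.S₀) : G) := fun c => by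
    have h : k (c : P) = 1 := c.2
    exact (inv_mul_eq_one.1 (congrArg Subtype.val h)).symm
  let m : k.ker →* F :=
    { toFun := fun c => ⟨L.bar (L.S₀_le_Hv ((c : P) : L.S₀).2), by
        refine ⟨?_, L.mem_U.2 ⟨_, ((c : P) : L.S₀).2, rfl⟩⟩
        show L.phi _ _ = _
        rw [L.phi_bar]
        exact L.bar_congr _ _ (hker c)⟩
      map_one' := Subtype.ext ((L.bar_one_iff _).2 (one_mem _))
      map_mul' := fun c d => Subtype.ext (L.bar_mul _ _) }
  have hm2 : Nat.card m.ker ≤ 2 := by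
    rw [← Nat.card_fin 2]
    refine Nat.card_le_card_of_injective (fun c : m.ker =>
      if ((((c : k.ker) : P) : L.S₀) : G) = 1 then (0 : Fin 2) else 1) fun c d e => ?_
    have hval : ∀ c : m.ker, ((((c : k.ker) : P) : L.S₀) : G) = 1 ∨ ((((c : k.ker) : P) : L.S₀) : G) = L.t := fun c => by
      have hV := (L.bar_one_iff _).1 (congrArg Subtype.val (c.2 : m (c : k.ker) = 1))
      have hfix := hker (c : k.ker)
      rcases hV with h | h | h | h
      · exact Or.inl h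
      · exact Or.inr h
      · rw [h, hsV] at hfix
        exact absurd hfix L.t_v_ne
      · exfalso
        rw [h, show s * (L.t * L.v) * s⁻¹ = s * L.t * s⁻¹ * (s * L.v * s⁻¹) by group, hsV, hst.eq,
          mul_inv_cancel_right, ← mul_assoc, L.sq, one_mul] at hfix
        exact L.t_v_ne hfix.symm
    refine Subtype.ext (Subtype.ext (Subtype.ext (Subtype.ext ?_)))
    rcases hval c with h | h <;> rcases hval d with h' | h' <;>
      simp only [h, h', if_true, L.ne_one, if_false] at e ⊢ <;> first | rfl | exact absurd e (by decide)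
  have := card_ker_bound m
  nlinarith

/-- a five-element centralising the four-group -/
structure Cfg.Fiv (b : G) : Prop where
  mem : b ∈ L.Hv
  ord : orderOf b = 5

theorem Cfg.exists_fiv : ∃ b, L.Fiv b := by
  haveI : Fact (Nat.Prime 5) := ⟨by norm_num⟩
  obtain ⟨⟨b, hb⟩, hbo⟩ := exists_prime_orderOf_dvd_card' (G := L.Hv) 5 (by rw [L.card_Hv]; norm_num)
  exact ⟨b, hb, by rwa [Subgroup.orderOf_mk] at hbo⟩

variable {L} {b : G} (B : L.Fiv b)
include B

theorem Cfg.Fiv.pow5 : b ^ 5 = 1 := B.ord ▸ pow_orderOf_eq_one b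

theorem Cfg.Fiv.bar_ord : orderOf (L.bar B.mem) = 5 := by
  haveI : Fact (Nat.Prime 5) := ⟨by norm_num⟩
  refine orderOf_eq_prime (by rw [← L.bar_pow, L.bar_one_iff, B.pow5]; exact one_mem _) fun e => ?_
  have h := L.V_pow_odd ((L.bar_one_iff B.mem).1 e) (n := 5) (by decide)
  rw [B.pow5] at h
  have := B.ord
  rw [← h, orderOf_one] at this
  omega

theorem Cfg.Fiv.norm_M : Nat.card ↥(Subgroup.normalizer (Subgroup.zpowers (L.bar B.mem) : Set L.MQ)) = 10 ∧
    Subgroup.centralizer (Subgroup.zpowers (L.bar B.mem) : Set L.MQ) = Subgroup.zpowers (L.bar B.mem) := by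
  obtain ⟨hc, hs, -⟩ := L.MQ_facts
  haveI := hs
  exact Seven.five_norm L.cit hc _ ((Nat.card_zpowers _).trans B.bar_ord)

theorem Cfg.Fiv.cent_bar5 {m : L.MQ} (h : Commute m (L.bar B.mem)) : ∃ i : ℕ, m = L.bar B.mem ^ i := by
  have hm : m ∈ Subgroup.centralizer (Subgroup.zpowers (L.bar B.mem) : Set L.MQ) := by
    refine Subgroup.mem_centralizer_iff.2 fun x hx => ?_
    obtain ⟨i, rfl⟩ := hx
    exact (h.zpow_right i).eq.symm
  rw [B.norm_M.2, ← mem_powers_iff_mem_zpowers] at hm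
  obtain ⟨i, hi⟩ := hm
  exact ⟨i, hi.symm⟩

/-- no outer element of the centraliser of the involution centralises it -/
theorem Cfg.Fiv.no_outer {y : G} (hy : y ∈ L.H) (hout : y * L.v * y⁻¹ = L.t * L.v) : ¬ Commute y b := by
  intro hyb
  classical
  have hy2 : y ^ 2 ∈ L.Hv := by
    rcases L.H_split (pow_mem hy 2) with h | h
    · exact h
    exfalso
    rw [pow_two, show y * y * L.v * (y * y)⁻¹ = y * (y * L.v * y⁻¹) * y⁻¹ by group, hout,
      show y * (L.t * L.v) * y⁻¹ = y * L.t * y⁻¹ * (y * L.v * y⁻¹) by group, hout, (L.mem_H.1 hy).eq,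
      mul_inv_cancel_right, ← mul_assoc, L.sq, one_mul] at h
    exact L.t_v_ne h.symm
  have hcom2 : Commute (L.bar hy2) (L.bar B.mem) := by
    show L.bar hy2 * L.bar B.mem = L.bar B.mem * L.bar hy2
    rw [← L.bar_mul hy2 B.mem, ← L.bar_mul B.mem hy2]
    exact L.bar_congr (mul_mem hy2 B.mem) (mul_mem B.mem hy2) (hyb.pow_left 2).eq
  obtain ⟨i, hi⟩ := B.cent_bar5 hcom2
  have h10 : (y ^ 2) ^ 5 ∈ L.V := by
    rw [← L.bar_one_iff (pow_mem hy2 5), L.bar_pow hy2, hi, ← pow_mul, mul_comm, pow_mul, ← L.bar_pow B.mem, L.bar_congr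
      (pow_mem B.mem 5) (one_mem _) B.pow5]
    rw [(L.bar_one_iff (one_mem _)).2 (one_mem _), one_pow]
  set y5 := y ^ 5 with hy5
  have h5two : Tw.TwoElt y5 := by
    refine ⟨2, ?_⟩
    rw [hy5, ← pow_mul, show 5 * 2 ^ 2 = 2 * 5 * 2 by norm_num, pow_mul, pow_mul, pow_two]
    exact L.V_sq h10
  obtain ⟨c, hc, hcS⟩ := L.S_syl.conj_elt (pow_mem hy 5) h5two
  set s := c * y5 * c⁻¹ with hs
  set a := c * b * c⁻¹ with ha
  have haH : a ∈ L.Hv := L.NV_Hv (L.H_NV hc) B.mem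
  have A : L.Fiv a := ⟨haH, by rw [ha, ← MulAut.conj_apply, MulEquiv.orderOf_eq, B.ord]⟩
  have hsa : Commute s a := (Commute.conj_iff c).2 (hyb.pow_left 5)
  have hss : s * s ∈ L.V := by
    have e : s * s = c * ((y ^ 2) ^ 5) * c⁻¹ := by
      rw [hs, conj_mul, hy5, ← pow_add, ← pow_mul]
    rw [e]
    exact L.NV_V (L.H_NV hc) h10
  have hs0 : s ∉ L.S₀ := fun h0 => by
    have h5 := L.outer_odd hy hout (n := 5) (by decide)
    refine L.outer_notin h5 ?_
    have := L.NV_Hv (inv_mem (L.H_NV hc)) (L.S₀_le_Hv h0)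
    rwa [hs, inv_inv, show c⁻¹ * (c * y5 * c⁻¹) * c = y5 by group] at this
  have hfour := L.fix_four hcS hs0 hss
  have hsNV : s ∈ L.NV := L.H_NV (L.S_le hcS)
  have hsz : Commute s z := (L.mem_S.1 hcS).2
  obtain ⟨-, hbound⟩ := L.out_bound hcS (L.out_x hcS hs0)
  set K : Subgroup L.MQ := Seven.fixSub (L.phi hsNV) with hK
  have hzK : L.bar L.z_Hv ∈ K := by
    show L.phi hsNV (L.bar L.z_Hv) = L.bar L.z_Hv
    rw [L.phi_bar]; exact L.bar_congr _ _ (by rw [hsz.eq, mul_inv_cancel_right])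
  have haK : L.bar haH ∈ K := by
    show L.phi hsNV (L.bar haH) = L.bar haH
    rw [L.phi_bar]; exact L.bar_congr _ _ (by rw [hsa.eq, mul_inv_cancel_right])
  obtain ⟨hz2, hz1⟩ := L.z_bar_sq
  have huniq : ∀ m ∈ K ⊓ L.U, m * m = 1 → m ≠ 1 → m = L.bar L.z_Hv := by
    rintro m ⟨hmK, hmU⟩ hm hm1
    obtain ⟨g, hg, rfl⟩ := L.mem_U.1 hmU
    obtain ⟨r, hr, hW⟩ := L.invol_W hg (L.invol_bar hg (by
      rw [← L.bar_one_iff (mul_mem (L.S₀_le_Hv hg) (L.S₀_le_Hv hg)), L.bar_mul]; exact hm))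
    obtain ⟨e, he, w, hw, hew⟩ := L.W_split hr hW
    have heH := L.S₀_le_Hv (L.E_S₀ hr he)
    have hge : L.bar heH = L.bar (L.S₀_le_Hv hg) :=
      (L.bar_eq _ _).2 (by rw [hew, inv_mul_cancel_left]; exact hw)
    rw [← hge] at hmK hm1 ⊢
    have he1 : e ≠ 1 := fun e1 => hm1 ((L.bar_one_iff heH).2 (e1 ▸ one_mem _))
    have hD := (L.W_D hr (L.E_le_W hr he) he1).2 he
    have h : L.bar (L.NV_Hv hsNV heH) = L.bar heH := hmK
    rw [eq_comm, L.bar_eq] at h
    have he2 := L.coset_D hD heH h (by rw [mul_inv_cancel_left]; exact Cfg.D_conj hD)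
    rcases hbound r hr e he (mul_inv_eq_iff_eq_mul.1 (inv_mul_eq_one.1 he2).symm : Commute s e).symm with h1 | h1
    · exact absurd h1 he1
    · exact L.bar_congr _ _ h1
  have hKUz : L.bar L.z_Hv ∈ K ⊓ L.U := ⟨hzK, L.z_U⟩
  have hT : Tw.RelSyl (K ⊓ L.U) K := by
    refine Tw.RelSyl.of_normal inf_le_left (L.USyl.isPGroup'.to_le inf_le_right) fun m hm _ hn => ⟨hm, L.cent_z ?_⟩
    refine mul_inv_eq_iff_eq_mul.1 (huniq _ ((Subgroup.mem_normalizer_iff.1 hn _).1 hKUz) ?_ ?_)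
    · rw [conj_mul, hz2]; group
    · exact fun e => hz1 (conj_eq_one_iff.1 e)
  set zK : K := ⟨L.bar L.z_Hv, hzK⟩ with hzKdef
  have hzo : orderOf zK = 2 := by rw [Subgroup.orderOf_mk]; exact orderOf_two_iff.2 L.z_bar_sq
  have hodd := Cfsg.Agent.Char.oddInvol_of_isolated_sylow hzo (P := hT.sylow) hKUz fun g hg => Subtype.ext
    (huniq _ hg (by
      show (g : L.MQ) * L.bar L.z_Hv * (g : L.MQ)⁻¹ * ((g : L.MQ) * L.bar L.z_Hv * (g : L.MQ)⁻¹) = 1
      rw [conj_mul, hz2]; group) fun e => hz1 (conj_eq_one_iff.1 e))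
  have hcm := Cfsg.Agent.Char.zStar hodd ⟨L.bar haH, haK⟩
  set O := Cfsg.oddCore K with hO
  have hOodd : Odd (Nat.card O) := Cfsg.Agent.Char.card_oddCore_odd K
  haveI hON : O.Normal := inferInstance
  have hcitK : CIT K := L.cit.subgroup K
  have hinv := hcitK.inverts hzo hOodd fun x hx => hON.conj_mem x hx zK
  set bK : K := ⟨L.bar haH, haK⟩ with hbK
  set o := zK * bK * zK⁻¹ * bK⁻¹ with ho
  obtain ⟨k, hk⟩ := hOodd
  have hon : o ^ (2 * k + 1) = 1 :=
    hk ▸ orderOf_dvd_iff_pow_eq_one.1 (Subgroup.orderOf_dvd_natCard O hcm)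
  set r := o⁻¹ ^ (k + 1) with hr
  have hrO : r ∈ O := pow_mem (inv_mem hcm) _
  have hrr : r * r = o⁻¹ := by
    rw [hr, ← pow_add, show k + 1 + (k + 1) = (2 * k + 1) + 1 by ring, pow_succ, inv_pow o (2 * k + 1), hon,
      inv_one, one_mul]
  have hzi : zK⁻¹ = zK := Subtype.ext (inv_eq_of_mul_eq_one_right hz2)
  have hz2' : zK * zK = 1 := Subtype.ext hz2
  have hrz : r * zK * r⁻¹ = o⁻¹ * zK := by
    have h := hinv _ (inv_mem hrO)
    rw [inv_inv, mul_inv_eq_iff_eq_mul] at h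
    rw [mul_assoc, h, ← mul_assoc, hrr]
  have hbz : bK * zK * bK⁻¹ = o⁻¹ * zK := by
    rw [ho, mul_inv_rev, mul_inv_rev, mul_inv_rev, inv_inv, inv_inv, hzi]
    calc bK * zK * bK⁻¹ = bK * zK * bK⁻¹ * (zK * zK) := by rw [hz2', mul_one]
      _ = bK * (zK * (bK⁻¹ * zK)) * zK := by group
  have hcom : Commute (r⁻¹ * bK) zK := by
    refine mul_inv_eq_iff_eq_mul.1 ?_
    rw [show r⁻¹ * bK * zK * (r⁻¹ * bK)⁻¹ = r⁻¹ * (bK * zK * bK⁻¹) * r by group, hbz, ← hrz]
    group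
  obtain ⟨n, hn⟩ := hcitK.two_of_commute hzo hcom
  have hbO : bK ∈ O := by
    rw [← QuotientGroup.eq_one_iff]
    refine orderOf_eq_one_iff.1 (Nat.eq_one_of_dvd_coprimes
      (Nat.Coprime.pow_right n (by norm_num : Nat.Coprime 5 2)) (orderOf_dvd_of_pow_eq_one ?_) ?_)
    · rw [← QuotientGroup.mk_pow, show bK ^ 5 = 1 from Subtype.ext (by
        show L.bar haH ^ 5 = 1
        rw [← A.bar_ord, pow_orderOf_eq_one]), QuotientGroup.mk_one]
    · rw [show (QuotientGroup.mk bK : K ⧸ O) = QuotientGroup.mk (r⁻¹ * bK) by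
        rw [QuotientGroup.eq]
        simpa [mul_assoc] using hON.conj_mem _ (inv_mem hrO) bK⁻¹]
      exact hn ▸ orderOf_map_dvd (QuotientGroup.mk' O) (r⁻¹ * bK)
  -- the core is the subgroup of order five
  have hOA : ∀ m : K, m ∈ O → (m : L.MQ) ∈ Subgroup.zpowers (L.bar haH) := fun m hm => by
    have h1 : zK * (m * bK) * zK⁻¹ = (m * bK)⁻¹ := hinv _ (mul_mem hm hbO)
    have h2 : zK * (m * bK) * zK⁻¹ = m⁻¹ * bK⁻¹ := by
      rw [show zK * (m * bK) * zK⁻¹ = zK * m * zK⁻¹ * (zK * bK * zK⁻¹) by group, hinv _ hm, hinv _ hbO]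
    have hcomm : Commute m bK := by
      have := congrArg (fun a => a⁻¹) (h1.symm.trans h2)
      simp only [inv_inv, mul_inv_rev] at this
      exact this
    obtain ⟨i, hi⟩ := A.cent_bar5 (m := (m : L.MQ)) (congrArg Subtype.val hcomm.eq)
    rw [hi]
    exact pow_mem (Subgroup.mem_zpowers _) _
  -- an element of order at least four in the normaliser
  obtain ⟨f, hfF, hf1, hfz⟩ : ∃ f ∈ K ⊓ L.U, f ≠ 1 ∧ f ≠ L.bar L.z_Hv := by
    by_contra hcon
    push Not at hcon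
    haveI : Fintype ↥(K ⊓ L.U) := Fintype.ofFinite _
    have hle : Nat.card ↥(K ⊓ L.U) ≤ 2 := by
      rw [← Nat.card_fin 2]
      refine Nat.card_le_card_of_injective (fun m : ↥(K ⊓ L.U) => if (m : L.MQ) = 1 then (0 : Fin 2) else 1)
        fun m m' e => Subtype.ext ?_
      by_cases h : (m : L.MQ) = 1 <;> by_cases h' : (m' : L.MQ) = 1
      · rw [h, h']
      · simp only [h, h', if_true, if_false] at e; exact absurd e (by decide)
      · simp only [h, h', if_true, if_false] at e; exact absurd e (by decide)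
      · rw [hcon _ m.2 h, hcon _ m'.2 h']
    exact absurd (hfour.trans hle) (by norm_num)
  have hfN : f ∈ Subgroup.normalizer (Subgroup.zpowers (L.bar haH) : Set L.MQ) := by
    refine Tw.mem_normalizer_of fun x hx => ?_
    obtain ⟨j, rfl⟩ := hx
    exact hOA _ (hON.conj_mem _ (zpow_mem hbO j) ⟨f, hfF.1⟩)
  have hd := Subgroup.orderOf_dvd_natCard _ hfN
  rw [A.norm_M.1] at hd
  obtain ⟨j, hj⟩ := (L.USyl.isPGroup'.to_le (inf_le_right : K ⊓ L.U ≤ L.U)) ⟨f, hfF⟩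
  have hd2 : orderOf f ∣ 2 ^ j := orderOf_dvd_of_pow_eq_one (congrArg Subtype.val hj)
  have h2 : orderOf f ∣ 2 := by
    obtain ⟨l, -, hl⟩ := (Nat.dvd_prime_pow Nat.prime_two).1 hd2
    rw [hl] at hd ⊢
    rcases l with _ | _ | l
    · norm_num
    · norm_num
    · exfalso
      have : (4 : ℕ) ∣ 10 := (Dvd.intro (2 ^ l) (by ring) : 4 ∣ 2 ^ (l + 1 + 1)).trans hd
      norm_num at this
  exact hfz (huniq f hfF (by rw [← pow_two]; exact orderOf_dvd_iff_pow_eq_one.1 h2) hf1)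

/-- the centraliser of the involution and the element -/
theorem Cfg.Fiv.cent_t {x : G} (hxt : Commute x L.t) (hxb : Commute x b) : ∃ w ∈ L.V, ∃ i : ℕ, x = w * b ^ i := by
  have hx : x ∈ L.Hv := (L.H_split (L.mem_H.2 hxt)).resolve_right fun h => B.no_outer (L.mem_H.2 hxt) h hxb
  obtain ⟨i, hi⟩ := B.cent_bar5 (m := L.bar hx) (by
    rw [Commute, SemiconjBy, ← L.bar_mul, ← L.bar_mul]; exact L.bar_congr _ _ hxb.eq)
  rw [← L.bar_pow, eq_comm, L.bar_eq] at hi
  exact ⟨_, hi, i, by rw [← (L.Hv_V (pow_mem B.mem i) hi).eq, mul_inv_cancel_left]⟩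

end Cfsg.Agent.Spor.SuzT.Rad
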