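import Cfsg.Agent.Lib.Spor.SuzR.SevenM

/-!
Normalisers of subgroups of order five in a simple group of order 20160 with two-closed involution centralisers.
-/

set_option autoImplicit false
set_option maxRecDepth 100000
set_option linter.unusedSectionVars false
set_option linter.style.haveILetI false

namespace Cfsg.Agent.Spor.SuzT.Seven

open Cfsg.Agent.Solv.CITGroups (CIT orderOf_two_iff)

set_option synthInstance.maxSize 4000 in
set_option synthInstance.maxHeartbeats 200000 in
theorem pairs_five : ∀ c < 64, ∀ e < 5, ∀ n, c ∣ 63 → e ∣ 4 → n * (c * e) = 4032 → n % 5 = 1 →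
    e = 1 ∨ (c, e) = (1, 2) ∨ (c, e) = (3, 4) ∨ 7 ∣ c := by
  intro c hc e he n hc63 he4 h1 h2
  have hn : n = 4032 / (c * e) := by
    rw [← h1, Nat.mul_div_cancel _ (Nat.pos_of_ne_zero fun e0 => by rw [e0, mul_zero] at h1; omega)]
  have hdv : c * e ∣ 4032 := ⟨n, by rw [← h1, mul_comm]⟩
  subst hn
  exact (by decide +kernel : ∀ c : Fin 64, ∀ e : Fin 5, (c : ℕ) ∣ 63 → (e : ℕ) ∣ 4 → (c : ℕ) * e ∣ 4032 →
    4032 / ((c : ℕ) * e) % 5 = 1 →
    (e : ℕ) = 1 ∨ ((c : ℕ), (e : ℕ)) = (1, 2) ∨ ((c : ℕ), (e : ℕ)) = (3, 4) ∨ 7 ∣ (c : ℕ))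
    ⟨c, hc⟩ ⟨e, he⟩ hc63 he4 hdv h2

universe u

variable {M : Type u} [Group M] [Finite M] [IsSimpleGroup M]

theorem five_norm (hcit : CIT M) (hc : Nat.card M = 20160) (Q : Subgroup M) (hQ : Nat.card Q = 5) :
    Nat.card ↥(Subgroup.normalizer (Q : Set M)) = 10 ∧ Subgroup.centralizer (Q : Set M) = Q := by
  haveI : Fact (Nat.Prime 5) := ⟨by norm_num⟩
  haveI : Fact (Nat.Prime 7) := ⟨by norm_num⟩
  haveI : Fact (Nat.Prime 3) := ⟨Nat.prime_three⟩
  haveI : Fact (Nat.Prime 2) := ⟨Nat.prime_two⟩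
  have hQne : Q ≠ ⊥ := fun e => by rw [e, Subgroup.card_bot] at hQ; omega
  haveI : IsCyclic Q := isCyclic_of_prime_card hQ
  have hQab : ∀ a ∈ Q, ∀ b ∈ Q, a * b = b * a := fun a ha b hb =>
    congrArg Subtype.val ((IsCyclic.commGroup (α := Q)).mul_comm ⟨a, ha⟩ ⟨b, hb⟩)
  have hQC : Q ≤ Subgroup.centralizer (Q : Set M) := fun a ha =>
    Subgroup.mem_centralizer_iff.2 fun b hb => hQab b hb a ha
  set C := Subgroup.centralizer (Q : Set M) with hC
  set N := Subgroup.normalizer (Q : Set M) with hN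
  have hodd : Odd (Nat.card C) := odd_cent hcit (by rw [hQ]; decide) hQne
  obtain ⟨c, hcc⟩ : ∃ c, Nat.card C = 5 * c := by
    obtain ⟨c, e⟩ := Subgroup.card_dvd_of_le hQC
    exact ⟨c, by rw [e, hQ]⟩
  have hc63 : c ∣ 63 := by
    have h1 : 5 * c ∣ 5 * (64 * 63) := by
      rw [← hcc, show 5 * (64 * 63) = Nat.card M from hc.symm]; exact C.card_subgroup_dvd_card
    refine Nat.Coprime.dvd_of_dvd_mul_left ?_ (Nat.dvd_of_mul_dvd_mul_left (by norm_num) h1)
    rw [hcc] at hodd
    exact (show (64 : ℕ) = 2 ^ 6 from rfl) ▸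
      (Nat.coprime_two_right.2 (Nat.odd_mul.1 hodd).2).pow_right 6
  obtain ⟨e, he, hNe⟩ := card_norm Q
  rw [card_aut_prime (by norm_num) hQ] at he
  rw [← hN, ← hC, hcc] at hNe
  obtain ⟨n, hn5, hn⟩ := sylow_count ⊤ Q le_top hQ (by rw [Subgroup.card_top, hc]; norm_num)
  rw [top_inf_eq, ← hN, Subgroup.card_top, hc, hNe] at hn
  have hn' : n * (c * e) = 4032 := by
    have : 5 * (n * (c * e)) = 5 * 4032 := by rw [show 5 * 4032 = 20160 from rfl, ← hn]; ring
    omega
  rcases pairs_five c (Nat.lt_succ_of_le (Nat.le_of_dvd (by norm_num) hc63)) e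
      (Nat.lt_succ_of_le (Nat.le_of_dvd (by norm_num) he)) n hc63 he hn' hn5 with rfl | hce | hce | h7
  · exfalso
    let S : Sylow 5 M := (IsPGroup.of_card (n := 1) (by rw [hQ, pow_one]) : IsPGroup 5 Q).toSylow (by
      intro hd
      have h := Q.card_mul_index
      rw [hQ, hc] at h
      obtain ⟨k, hk⟩ := hd
      omega)
    refine norm_ne_cent S (by rw [show Nat.card S = Nat.card Q from rfl, hQ]; omega)
      (by rw [show Nat.card S = Nat.card Q from rfl, hQ, hc]; omega) ?_
    refine (Subgroup.eq_of_le_of_card_ge (Subgroup.centralizer_le_normalizer _) ?_).ge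
    show Nat.card N ≤ Nat.card C
    rw [hNe, mul_one, hcc]
  · obtain ⟨rfl, rfl⟩ := Prod.ext_iff.1 hce
    exact ⟨hNe, (Subgroup.eq_of_le_of_card_ge hQC (by rw [hcc, hQ]; norm_num)).symm⟩
  · exfalso
    obtain ⟨rfl, rfl⟩ := Prod.ext_iff.1 hce
    -- the odd subgroup of order three
    obtain ⟨⟨a, haC⟩, hao⟩ := exists_prime_orderOf_dvd_card' (G := C) 3 (by rw [hcc]; norm_num)
    rw [Subgroup.orderOf_mk] at hao
    set A := Subgroup.zpowers a with hA
    have hAc : Nat.card A = 3 := (Nat.card_zpowers a).trans hao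
    have hAodd : Odd (Nat.card A) := by rw [hAc]; decide
    have hAC : A ≤ C := Subgroup.zpowers_le.2 haC
    have hCA : C ≤ Subgroup.normalizer (A : Set M) := by
      obtain ⟨m, hm3, hm⟩ := sylow_count C A hAC hAc (by rw [hcc]; norm_num)
      obtain ⟨k, hk⟩ : 3 ∣ Nat.card ↥(C ⊓ Subgroup.normalizer (A : Set M)) :=
        hAc ▸ Subgroup.card_dvd_of_le (le_inf hAC Subgroup.le_normalizer)
      rw [hk, hcc] at hm
      have hm' : m * k = 5 := by
        have : 3 * (m * k) = 3 * 5 := by rw [show 3 * 5 = 5 * 3 by norm_num, ← hm]; ring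
        omega
      rcases (Nat.dvd_prime (by norm_num : Nat.Prime 5)).1 (Dvd.intro k hm') with rfl | rfl
      · refine inf_eq_left.1 (Subgroup.eq_of_le_of_card_ge inf_le_left ?_)
        rw [hk, hcc]; omega
      · omega
    -- it is the set of cubic elements of the centraliser
    have hthree : ∀ g ∈ C, g ^ 3 = 1 → g ∈ A := fun g hg h3 => by
      by_contra hgA
      have hgo : orderOf g = 3 := orderOf_eq_prime h3 fun e1 => hgA (e1 ▸ one_mem A)
      have hgn := hCA hg
      have hp : IsPGroup 3 ↥(A ⊔ Subgroup.zpowers g) :=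
        (IsPGroup.of_card (n := 1) (by rw [hAc, pow_one]) : IsPGroup 3 A).to_sup_of_normal_left'
          (IsPGroup.of_card (n := 1) (by rw [Nat.card_zpowers, hgo, pow_one]))
          (Subgroup.zpowers_le.2 hgn)
      obtain ⟨i, hi⟩ := IsPGroup.iff_card.1 hp
      have hd : 3 ^ i ∣ 5 * 3 := hi ▸ hcc ▸ Subgroup.card_dvd_of_le (sup_le hAC (Subgroup.zpowers_le.2 hg))
      have hi1 : i ≤ 1 := by
        by_contra hi2
        have := (pow_dvd_pow 3 (by omega : 2 ≤ i)).trans hd
        norm_num at this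
      refine hgA ((Subgroup.eq_of_le_of_card_ge (le_sup_left : A ≤ A ⊔ Subgroup.zpowers g) ?_).ge
        (Subgroup.mem_sup_right (Subgroup.mem_zpowers g)))
      rw [hi, hAc]
      exact (Nat.pow_le_pow_right (by norm_num) hi1).trans_eq (pow_one 3)
    -- a two-element inducing an automorphism of order four
    obtain ⟨T⟩ : Nonempty (Sylow 2 N) := inferInstance
    have hT : Nat.card T = 4 := by
      rw [T.card_eq_multiplicity, hNe, show 5 * 3 * 4 = 2 ^ 2 * 15 by norm_num,
        Nat.factorization_mul (by norm_num) (by norm_num), Finsupp.add_apply, Nat.prime_two.factorization_pow,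
        Finsupp.single_eq_same, Nat.factorization_eq_zero_of_not_dvd (by norm_num : ¬ 2 ∣ 15)]
      norm_num
    haveI : IsCyclic (MulAut Q) := by
      haveI : Fact (Nat.Prime (Nat.card Q)) := ⟨by rw [hQ]; norm_num⟩
      exact isCyclic_of_injective (IsCyclic.mulAutMulEquiv (G := Q)).toMonoidHom (IsCyclic.mulAutMulEquiv (G := Q)).injective
    let f : (T : Subgroup N) →* MulAut Q := Q.normalizerMonoidHom.comp (Subgroup.subtype _)
    have hf : Function.Injective f := by
      rw [injective_iff_map_eq_one]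
      intro x hx
      have hk : ((x : (T : Subgroup N)) : N) ∈ Q.normalizerMonoidHom.ker := hx
      rw [Subgroup.normalizerMonoidHom_ker, Subgroup.mem_subgroupOf] at hk
      obtain ⟨j, hj⟩ := T.isPGroup' x
      refine Subtype.ext (Subtype.ext (orderOf_eq_one_iff.1 ?_))
      refine Nat.eq_one_of_dvd_coprimes (Nat.Coprime.pow_left j (Nat.coprime_two_left.2 hodd))
        (orderOf_dvd_of_pow_eq_one ?_) (Subgroup.orderOf_dvd_natCard C hk)
      exact congrArg (fun y : (T : Subgroup N) => ((y : N) : M)) hj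
    haveI : IsCyclic (T : Subgroup N) := isCyclic_of_injective f hf
    obtain ⟨x, hx⟩ := IsCyclic.exists_generator (α := (T : Subgroup N))
    have hxo : orderOf x = 4 := (orderOf_eq_card_of_forall_mem_zpowers hx).trans hT
    set y : M := ((x : N) : M) with hy
    have hyo : orderOf y = 4 := by rw [hy, Subgroup.orderOf_coe, Subgroup.orderOf_coe, hxo]
    have hyy : orderOf (y * y) = 2 := by
      rw [← pow_two, orderOf_pow, hyo]
      norm_num
    have hyA : ∀ g ∈ A, y * g * y⁻¹ ∈ A := fun g hg => by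
      refine hthree _ (Subgroup.mem_centralizer_iff.2 fun q hq => ?_) ?_
      · have hq' : y⁻¹ * q * y ∈ Q := (Subgroup.mem_normalizer_iff''.1 (x : N).2 q).1 hq
        have h := Subgroup.mem_centralizer_iff.1 (hAC hg) _ hq'
        calc q * (y * g * y⁻¹) = y * ((y⁻¹ * q * y) * g) * y⁻¹ := by group
          _ = y * (g * (y⁻¹ * q * y)) * y⁻¹ := by rw [h]
          _ = y * g * y⁻¹ * q := by group
      · rw [conj_pow, show g ^ 3 = 1 from hAc ▸ orderOf_dvd_iff_pow_eq_one.1 (Subgroup.orderOf_dvd_natCard A hg)]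
        group
    have hyn : y ∈ Subgroup.normalizer (A : Set M) := by
      refine Subgroup.mem_normalizer_iff.2 fun g => ⟨hyA g, fun hg => ?_⟩
      have h := hyA _ (hyA _ (hyA _ hg))
      rwa [show y * (y * (y * (y * g * y⁻¹) * y⁻¹) * y⁻¹) * y⁻¹ = y ^ 4 * g * (y ^ 4)⁻¹ by
          simp only [pow_succ, pow_zero, one_mul, mul_inv_rev, mul_assoc],
        show y ^ 4 = 1 by rw [← hyo, pow_orderOf_eq_one], one_mul, inv_one, mul_one] at h
    have h2 : (A.normalizerMonoidHom ⟨y, hyn⟩) ^ 2 = 1 := by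
      rw [← orderOf_dvd_iff_pow_eq_one]
      exact (orderOf_dvd_natCard _).trans (dvd_of_eq (card_aut_prime Nat.prime_three hAc))
    rw [← map_pow] at h2
    have hk : (⟨y, hyn⟩ : Subgroup.normalizer (A : Set M)) ^ 2 ∈ A.normalizerMonoidHom.ker := h2
    rw [Subgroup.normalizerMonoidHom_ker, Subgroup.mem_subgroupOf, SubgroupClass.coe_pow, pow_two] at hk
    have hao' : Odd (orderOf a) := by rw [hao]; decide
    have h1 := hcit.eq_one_of_commute hyy hao'
      (Subgroup.mem_centralizer_iff.1 hk a (Subgroup.mem_zpowers a) : Commute a (y * y))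
    rw [h1, orderOf_one] at hao
    omega
  · exfalso
    obtain ⟨⟨g, hg⟩, hgo⟩ := exists_prime_orderOf_dvd_card' (G := C) 7 (by rw [hcc]; exact h7.mul_left 5)
    rw [Subgroup.orderOf_mk] at hgo
    have h7c := (seven_norm hcit hc (Subgroup.zpowers g) ((Nat.card_zpowers g).trans hgo)).2
    have hle : Q ≤ Subgroup.zpowers g := by
      rw [← h7c]
      intro q hq
      refine Subgroup.mem_centralizer_iff.2 fun x hx => ?_
      obtain ⟨i, rfl⟩ := hx
      exact ((show Commute q g from Subgroup.mem_centralizer_iff.1 hg q hq).zpow_right i).eq.symm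
    have hd := Subgroup.card_dvd_of_le hle
    rw [hQ, Nat.card_zpowers, hgo] at hd
    norm_num at hd

end Cfsg.Agent.Spor.SuzT.Seven
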