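import Cfsg.Agent.Lib.Spor.SuzR.Five.FiveA
import Cfsg.Agent.Lib.Spor.SuzR.Five.FiveAut

/-!
Groups of Suzuki sporadic type: the classes of subgroups of order five and the Sylow normaliser.
-/

set_option autoImplicit false
set_option maxRecDepth 100000
set_option linter.unusedSectionVars false
set_option linter.style.haveILetI false

namespace Cfsg.Agent.Spor.SuzT.Rad

universe u

variable {G : Type u} [Group G] [Finite G] {z : G} {Q : Subgroup G} {C : Ctx z Q} (L : Cfg C)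

theorem conj_mem_map {c : G} {H : Subgroup G} {x : G} (hx : x ∈ H) :
    c * x * c⁻¹ ∈ H.map (MulAut.conj c).toMonoidHom := ⟨x, hx, rfl⟩

include L in
/-- five-elements lie in a given Sylow subgroup up to conjugation -/
theorem Cfg.into_syl (P : Sylow 5 G) {x : G} (hx : orderOf x = 5) :
    ∃ c : G, c * x * c⁻¹ ∈ (P : Subgroup G) := by
  haveI : Fact (Nat.Prime 5) := ⟨by norm_num⟩
  obtain ⟨R, hR⟩ :=
    (IsPGroup.of_card (n := 1) (by rw [Nat.card_zpowers, hx, pow_one]) : IsPGroup 5 (Subgroup.zpowers x)).exists_le_sylow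
  obtain ⟨c, hc⟩ := MulAction.exists_smul_eq G R P
  exact ⟨c, hc ▸ ⟨x, hR (Subgroup.mem_zpowers x), rfl⟩⟩

include L in
/-- fusion inside an abelian Sylow subgroup is controlled by its normaliser -/
theorem Cfg.control (P : Sylow 5 G) {x : G} {c : G} (hx : x ∈ (P : Subgroup G)) (hcx : c * x * c⁻¹ ∈ (P : Subgroup G)) :
    ∃ n ∈ Subgroup.normalizer ((P : Subgroup G) : Set G), n * x * n⁻¹ = c * x * c⁻¹ := by
  haveI : Fact (Nat.Prime 5) := ⟨by norm_num⟩
  set y := c * x * c⁻¹ with hy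
  have h1 : (P : Subgroup G) ≤ cX y := fun p hp => mem_cX.2 (L.syl5_comm P hp hcx)
  set P' := (P : Subgroup G).map (MulAut.conj c).toMonoidHom with hP'
  have h2 : P' ≤ cX y := by
    rintro _ ⟨p, hp, rfl⟩
    exact mem_cX.2 ((Commute.conj_iff c).2 (L.syl5_comm P hp hx))
  have hcard : Nat.card P' = 25 := by
    rw [hP', Subgroup.card_map_of_injective (MulAut.conj c).injective]; exact L.card_syl5 P
  obtain ⟨R, hR⟩ := L.syl_of_card hcard
  obtain ⟨d, hd⟩ := MulAction.exists_smul_eq (cX y) (R.subtype (hR.trans_le h2)) (P.subtype h1)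
  have hmove : ∀ p ∈ (P : Subgroup G), (d : G) * c * p * ((d : G) * c)⁻¹ ∈ (P : Subgroup G) := fun p hp => by
    have hm : c * p * c⁻¹ ∈ cX y := h2 (conj_mem_map hp)
    have h : d * ⟨_, hm⟩ * d⁻¹ ∈ ((P.subtype h1 : Sylow 5 (cX y)) : Subgroup (cX y)) := by
      rw [← hd]
      exact ⟨⟨_, hm⟩, show c * p * c⁻¹ ∈ (R : Subgroup G) from hR.symm ▸ conj_mem_map hp, rfl⟩
    have h' : (d : G) * (c * p * c⁻¹) * (d : G)⁻¹ ∈ (P : Subgroup G) := h
    rwa [show (d : G) * c * p * ((d : G) * c)⁻¹ = (d : G) * (c * p * c⁻¹) * (d : G)⁻¹ by group]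
  refine ⟨(d : G) * c, Tw.mem_normalizer_of hmove, ?_⟩
  calc (d : G) * c * x * ((d : G) * c)⁻¹ = (d : G) * (c * x * c⁻¹) * (d : G)⁻¹ := by group
    _ = y := by rw [(mem_cX.1 d.2).eq]; exact mul_inv_cancel_right _ _

include L in
/-- the data of a Sylow subgroup -/
theorem Cfg.five_data (P : Sylow 5 G) :
    ∃ (A : Subgroup (MulAut (P : Subgroup G))) (b b1 : (P : Subgroup G)),
      Five.Two25 A b b1 ∧ (∀ g : G, ¬ Commute (g * b1 * g⁻¹) z) ∧ (∃ g : G, Commute (g * b * g⁻¹) z) ∧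
      A = ((P : Subgroup G).normalizerMonoidHom).range ∧
      ((P : Subgroup G).normalizerMonoidHom).ker = (P : Subgroup G).subgroupOf (Subgroup.normalizer ((P : Subgroup G) : Set G)) ∧
      Nat.card (Subgroup.normalizer ((P : Subgroup G) : Set G)) = 25 * Nat.card A := by
  classical
  haveI : Fact (Nat.Prime 5) := ⟨by norm_num⟩
  set φ := (P : Subgroup G).normalizerMonoidHom with hφ
  have hker : φ.ker = (P : Subgroup G).subgroupOf (Subgroup.normalizer ((P : Subgroup G) : Set G)) := by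
    rw [hφ, Subgroup.normalizerMonoidHom_ker]
    ext x
    rw [Subgroup.mem_subgroupOf, Subgroup.mem_subgroupOf]
    refine ⟨fun h => L.syl_self_cent P fun p hp => (Subgroup.mem_centralizer_iff.1 h p hp : Commute p _).symm,
      fun h => Subgroup.mem_centralizer_iff.2 fun p hp => (L.syl5_comm P hp h).eq⟩
  have hcN : Nat.card (Subgroup.normalizer ((P : Subgroup G) : Set G)) = 25 * Nat.card φ.range := by
    rw [Subgroup.card_eq_card_quotient_mul_card_subgroup φ.ker,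
      Nat.card_congr (QuotientGroup.quotientKerEquivRange φ).toEquiv, hker,
      Nat.card_congr (Subgroup.subgroupOfEquivOfLe (Subgroup.le_normalizer)).toEquiv, L.card_syl5 P, mul_comm]
  have hmod : Nat.card φ.range % 5 = 4 := by
    obtain ⟨m, hm, hm4⟩ := L.order_five
    have hn := card_sylow_modEq_one 5 G
    rw [Nat.ModEq, P.card_eq_index_normalizer] at hn
    have h := (Subgroup.normalizer ((P : Subgroup G) : Set G)).card_mul_index
    rw [hcN, hm, mul_assoc] at h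
    have h' := Nat.eq_of_mul_eq_mul_left (by norm_num : 0 < 25) h
    change (Subgroup.normalizer ((P : Subgroup G) : Set G)).index % 5 = 1 % 5 at hn
    rw [← h', Nat.mul_mod, hn] at hm4
    omega
  -- the element fused to its square
  obtain ⟨b0, c0, hb0, hb0z, hc0z, hc0⟩ := C.exists_five_square
  obtain ⟨g, hg⟩ := L.into_syl P hb0
  set bG := g * b0 * g⁻¹ with hbG
  have hbo : orderOf bG = 5 := by rw [hbG, ← MulAut.conj_apply, MulEquiv.orderOf_eq, hb0]
  obtain ⟨B', hB'⟩ := L.exists_fiv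
  obtain ⟨g1, hg1⟩ := L.into_syl P hB'.ord
  set b1G := g1 * B' * g1⁻¹ with hb1G
  have hb1o : orderOf b1G = 5 := by rw [hb1G, ← MulAut.conj_apply, MulEquiv.orderOf_eq, hB'.ord]
  have hsepz : ∀ k : G, ¬ Commute (k * b1G * k⁻¹) z := fun k hk => by
    rw [hb1G, show k * (g1 * B' * g1⁻¹) * k⁻¹ = k * g1 * B' * (k * g1)⁻¹ by group] at hk
    exact hB'.not_A _ hk
  have hbz : Commute (g⁻¹ * bG * g⁻¹⁻¹) z := by rw [hbG, show g⁻¹ * (g * b0 * g⁻¹) * g⁻¹⁻¹ = b0 by group]; exact hb0z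
  -- squaring
  obtain ⟨nsq, hnsq, esq⟩ := L.control P (x := bG) (c := g * c0 * g⁻¹) hg (by
    rw [hbG, show g * c0 * g⁻¹ * (g * b0 * g⁻¹) * (g * c0 * g⁻¹)⁻¹ = g * (c0 * b0 * c0⁻¹) * g⁻¹ by group, hc0,
      ← conj_pow]
    exact pow_mem hg 2)
  rw [show g * c0 * g⁻¹ * bG * (g * c0 * g⁻¹)⁻¹ = bG ^ 2 by
    rw [hbG, show g * c0 * g⁻¹ * (g * b0 * g⁻¹) * (g * c0 * g⁻¹)⁻¹ = g * (c0 * b0 * c0⁻¹) * g⁻¹ by group, hc0,
      ← conj_pow]] at esq
  -- fixing
  obtain ⟨R, hR⟩ := L.syl_of_card (T := (P : Subgroup G).map (MulAut.conj g⁻¹).toMonoidHom)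
    (by rw [Subgroup.card_map_of_injective (MulAut.conj g⁻¹).injective]; exact L.card_syl5 P)
  obtain ⟨n, hnN, hnb, hnR⟩ := L.fix_move hb0 hb0z R (hR.symm ▸ ⟨bG, hg, show g⁻¹ * bG * g⁻¹⁻¹ = b0 by rw [hbG]; group⟩)
  set nf := g * n * g⁻¹ with hnf
  have hnfb : Commute nf bG := (Commute.conj_iff g).2 hnb
  have hRmem : ∀ x, x ∈ (R : Subgroup G) ↔ g * x * g⁻¹ ∈ (P : Subgroup G) := fun x => by
    rw [hR]
    constructor
    · rintro ⟨p, hp, rfl⟩
      show g * (g⁻¹ * p * g⁻¹⁻¹) * g⁻¹ ∈ _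
      rwa [show g * (g⁻¹ * p * g⁻¹⁻¹) * g⁻¹ = p by group]
    · exact fun h => ⟨_, h, show g⁻¹ * (g * x * g⁻¹) * g⁻¹⁻¹ = x by group⟩
  have hnfN : nf ∈ Subgroup.normalizer ((P : Subgroup G) : Set G) := Tw.mem_normalizer_of fun p hp => by
    have h := (hRmem _).1 ((Subgroup.mem_normalizer_iff.1 hnN (g⁻¹ * p * g)).1 ((hRmem _).2 (by
      rwa [show g * (g⁻¹ * p * g) * g⁻¹ = p by group])))
    rwa [hnf, show g * n * g⁻¹ * p * (g * n * g⁻¹)⁻¹ = g * (n * (g⁻¹ * p * g) * n⁻¹) * g⁻¹ by group]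
  have hnfP : nf ∉ (P : Subgroup G) := fun h => hnR ((hRmem n).2 h)
  -- exponent five
  have hpow : ∀ p : (P : Subgroup G), p ^ 5 = 1 := by
    by_contra hne
    push Not at hne
    obtain ⟨y, hy⟩ := hne
    have hyo : orderOf y = 25 := by
      obtain ⟨k, hk, e⟩ := (Nat.dvd_prime_pow (by norm_num : Nat.Prime 5)).1
        ((orderOf_dvd_natCard y).trans (dvd_of_eq (show Nat.card (P : Subgroup G) = 5 ^ 2 by rw [L.card_syl5 P]; norm_num)))
      interval_cases k
      · exact absurd (by rw [orderOf_eq_one_iff.1 (e.trans (pow_zero 5)), one_pow]) hy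
      · exact absurd (orderOf_dvd_iff_pow_eq_one.1 (dvd_of_eq (e.trans (pow_one 5)))) hy
      · rw [e]; norm_num
    have hgen : ∀ p : (P : Subgroup G), ∃ i : ℕ, p = y ^ i := fun p => by
      have h : p ∈ Subgroup.zpowers y := by
        rw [Subgroup.eq_top_of_card_eq (Subgroup.zpowers y) (by rw [Nat.card_zpowers, hyo, L.card_syl5 P])]
        exact Subgroup.mem_top p
      rw [← mem_powers_iff_mem_zpowers] at h
      obtain ⟨i, hi⟩ := h
      exact ⟨i, hi.symm⟩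
    set α := φ ⟨nf, hnfN⟩ with hα
    obtain ⟨k, hk⟩ := hgen (α y)
    obtain ⟨i, hi⟩ := hgen ⟨bG, hg⟩
    have hαb : α (⟨bG, hg⟩ : (P : Subgroup G)) = ⟨bG, hg⟩ := Subtype.ext
      (show nf * bG * nf⁻¹ = bG by rw [hnfb.eq, mul_inv_cancel_right])
    rw [hi, map_pow, hk, ← pow_mul, pow_eq_pow_iff_modEq, hyo] at hαb
    have hi5 : i % 25 ≠ 0 := fun h0 => by
      have h1 : (⟨bG, hg⟩ : (P : Subgroup G)) = 1 := by rw [hi, ← pow_mod_orderOf, hyo, h0, pow_zero]
      have h2 : bG = 1 := congrArg Subtype.val h1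
      rw [h2, orderOf_one] at hbo
      norm_num at hbo
    have hk5 : k ^ 5 % 25 = 1 := by
      rw [Nat.ModEq, Nat.mul_mod] at hαb
      have := Nat.mod_lt k (by norm_num : 25 > 0)
      have := Nat.mod_lt i (by norm_num : 25 > 0)
      rw [Nat.pow_mod]
      revert hαb hi5
      generalize hk' : k % 25 = k'
      generalize hi' : i % 25 = i'
      intro h1 h2
      have hk'25 : k' < 25 := by omega
      have hi'25 : i' < 25 := by omega
      revert h1 h2
      have key : ∀ a : Fin 25, ∀ c : Fin 25, (a.val * c.val) % 25 = c.val → c.val ≠ 0 → a.val ^ 5 % 25 = 1 := by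
        decide +kernel
      exact key ⟨k', hk'25⟩ ⟨i', hi'25⟩
    have hα5 : α ^ 5 = 1 := by
      have hn : ∀ j : ℕ, (α ^ j) y = y ^ (k ^ j) := by
        intro j
        induction j with
        | zero => simp
        | succ j ih => rw [pow_succ', MulAut.mul_apply, ih, map_pow, hk, ← pow_mul, pow_succ', mul_comm]
      refine MulEquiv.ext fun p => ?_
      obtain ⟨j, rfl⟩ := hgen p
      rw [map_pow, hn, ← pow_mul, MulAut.one_apply, pow_eq_pow_iff_modEq, hyo, Nat.ModEq, Nat.mul_mod, hk5, one_mul,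
        Nat.mod_mod]
    have hα1 : α = 1 := orderOf_eq_one_iff.1 (Nat.eq_one_of_dvd_coprimes
      ((by norm_num : Nat.Prime 5).coprime_iff_not_dvd.2 fun e => by omega)
      (orderOf_dvd_of_pow_eq_one hα5) (Subgroup.orderOf_dvd_natCard φ.range ⟨_, rfl⟩))
    have : (⟨nf, hnfN⟩ : Subgroup.normalizer ((P : Subgroup G) : Set G)) ∈ φ.ker := hα1
    rw [hker, Subgroup.mem_subgroupOf] at this
    exact hnfP this
  refine ⟨φ.range, ⟨bG, hg⟩, ⟨b1G, hg1⟩, ⟨⟨L.card_syl5 P, hpow⟩, hmod, ?_, ?_, ?_, ?_, ?_⟩, hsepz, ⟨g⁻¹, hbz⟩,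
    rfl, hker, hcN⟩
  · intro e
    have : bG = 1 := congrArg Subtype.val e
    rw [this, orderOf_one] at hbo; norm_num at hbo
  · intro e
    have : b1G = 1 := congrArg Subtype.val e
    rw [this, orderOf_one] at hb1o; norm_num at hb1o
  · refine ⟨φ ⟨nf, hnfN⟩, ⟨_, rfl⟩, fun e => hnfP ?_, Subtype.ext
      (show nf * bG * nf⁻¹ = bG by rw [hnfb.eq, mul_inv_cancel_right])⟩
    have : (⟨nf, hnfN⟩ : Subgroup.normalizer ((P : Subgroup G) : Set G)) ∈ φ.ker := e
    rwa [hker, Subgroup.mem_subgroupOf] at this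
  · exact ⟨φ ⟨nsq, hnsq⟩, ⟨_, rfl⟩, Subtype.ext esq⟩
  · rintro _ ⟨⟨m, hm⟩, rfl⟩ i e
    have e' : m * bG * m⁻¹ = b1G ^ i := congrArg Subtype.val e
    have hne : b1G ^ i ≠ 1 := fun h => by
      have : bG = 1 := conj_eq_one_iff.1 (e'.trans h)
      rw [this, orderOf_one] at hbo; norm_num at hbo
    obtain ⟨j, hj⟩ : ∃ j : ℕ, b1G = (b1G ^ i) ^ j := by
      have h : b1G ∈ Subgroup.zpowers (b1G ^ i) := by
        have he : Subgroup.zpowers (b1G ^ i) = Subgroup.zpowers b1G :=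
          Subgroup.eq_of_le_of_card_ge (Subgroup.zpowers_le.2 (Subgroup.npow_mem_zpowers _ _)) (by
            rw [Nat.card_zpowers, Nat.card_zpowers, hb1o, orderOf_eq_prime (p := 5) (by
              rw [← pow_mul, mul_comm, pow_mul, ← hb1o, pow_orderOf_eq_one, one_pow]) hne])
        rw [he]; exact Subgroup.mem_zpowers _
      rw [← mem_powers_iff_mem_zpowers] at h
      obtain ⟨j, hj⟩ := h
      exact ⟨j, hj.symm⟩
    refine hsepz (g⁻¹ * m⁻¹) ?_
    rw [hj, ← e', ← conj_pow]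
    refine Commute.pow_left ?_ j
    rwa [show g⁻¹ * m⁻¹ * (m * bG * m⁻¹) * (g⁻¹ * m⁻¹)⁻¹ = g⁻¹ * bG * g⁻¹⁻¹ by group]

include L in
theorem Cfg.five_main (P : Sylow 5 G) :
    (∃ A B : Subgroup G, Nat.card A = 5 ∧ Nat.card B = 5 ∧ (∀ g : G, A.map (MulAut.conj g).toMonoidHom ≠ B) ∧
      ∀ H : Subgroup G, Nat.card H = 5 → ∃ g : G, H.map (MulAut.conj g).toMonoidHom = A ∨ H.map (MulAut.conj g).toMonoidHom = B) ∧
    Nat.card (P : Subgroup G) = 25 ∧ Nat.card ↥(Subgroup.normalizer ((P : Subgroup G) : Set G)) = 600 ∧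
    Nonempty (↥(Subgroup.normalizer ((P : Subgroup G) : Set G)) ⧸
      (P : Subgroup G).subgroupOf (Subgroup.normalizer ((P : Subgroup G) : Set G)) ≃*
        Multiplicative (ZMod 4) × Equiv.Perm (Fin 3)) := by
  classical
  haveI : Fact (Nat.Prime 5) := ⟨by norm_num⟩
  obtain ⟨A, b, b1, T, hsep, ⟨g0, hg0⟩, rfl, hker, hcN⟩ := L.five_data P
  have hgen : ∀ {x y : G}, orderOf x = 5 → y ∈ Subgroup.zpowers x → y ≠ 1 → Subgroup.zpowers y = Subgroup.zpowers x := by
    intro x y hx hy hy1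
    refine Subgroup.eq_of_le_of_card_ge (Subgroup.zpowers_le.2 hy) ?_
    have h5 : y ^ 5 = 1 := by
      obtain ⟨i, rfl⟩ := hy
      show (x ^ i) ^ 5 = 1
      rw [← zpow_natCast, ← zpow_mul, mul_comm, zpow_mul, zpow_natCast, ← hx, pow_orderOf_eq_one, one_zpow]
    rw [Nat.card_zpowers, Nat.card_zpowers, hx, orderOf_eq_prime h5 hy1]
  have hbo : orderOf (b : G) = 5 := by rw [Subgroup.orderOf_coe]; exact T.elem.ord T.hb
  have hb1o : orderOf (b1 : G) = 5 := by rw [Subgroup.orderOf_coe]; exact T.elem.ord T.hb1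
  refine ⟨⟨Subgroup.zpowers (b : G), Subgroup.zpowers (b1 : G), by rw [Nat.card_zpowers, hbo],
    by rw [Nat.card_zpowers, hb1o], fun g e => ?_, fun H hH => ?_⟩, L.card_syl5 P, ?_, ?_⟩
  · have h : (b1 : G) ∈ (Subgroup.zpowers (b : G)).map (MulAut.conj g).toMonoidHom := e ▸ Subgroup.mem_zpowers _
    obtain ⟨x, ⟨i, rfl⟩, hx⟩ := h
    have hx' : g * (b : G) ^ i * g⁻¹ = (b1 : G) := hx
    refine hsep (g0 * g⁻¹) ?_
    rw [← hx', show g0 * g⁻¹ * (g * (b : G) ^ i * g⁻¹) * (g0 * g⁻¹)⁻¹ = g0 * (b : G) ^ i * g0⁻¹ by group, ← conj_zpow]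
    exact hg0.zpow_left i
  · haveI : IsCyclic H := isCyclic_of_prime_card hH
    obtain ⟨w, hw⟩ := IsCyclic.exists_generator (α := H)
    have hwo : orderOf (w : G) = 5 := by rw [Subgroup.orderOf_coe, orderOf_eq_card_of_forall_mem_zpowers hw, hH]
    obtain ⟨c, hc⟩ := L.into_syl P hwo
    have hw1 : (⟨c * w * c⁻¹, hc⟩ : (P : Subgroup G)) ≠ 1 := fun e => by
      have : (w : G) = 1 := conj_eq_one_iff.1 (congrArg Subtype.val e)
      rw [this, orderOf_one] at hwo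
      norm_num at hwo
    obtain ⟨a, ⟨⟨n, hn⟩, rfl⟩, i, hi⟩ := T.cover hw1
    refine ⟨n * c, ?_⟩
    have hmap : H.map (MulAut.conj (n * c)).toMonoidHom = Subgroup.zpowers (n * c * w * (n * c)⁻¹) := by
      have hHw : H = Subgroup.zpowers (w : G) := le_antisymm (fun x hx => by
        obtain ⟨j, hj⟩ := hw ⟨x, hx⟩
        exact ⟨j, congrArg Subtype.val hj⟩) (Subgroup.zpowers_le.2 w.2)
      refine (congrArg (Subgroup.map _) hHw).trans ?_
      rw [MonoidHom.map_zpowers]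
      rfl
    rw [hmap]
    have key : ∀ {q : (P : Subgroup G)}, orderOf (q : G) = 5 →
        (P : Subgroup G).normalizerMonoidHom ⟨n, hn⟩ ⟨c * w * c⁻¹, hc⟩ = q ^ i →
        Subgroup.zpowers (n * c * w * (n * c)⁻¹) = Subgroup.zpowers (q : G) := by
      intro q hq e
      have e' : n * (c * w * c⁻¹) * n⁻¹ = (q : G) ^ i := congrArg Subtype.val e
      refine hgen hq ?_ fun h => ?_
      · rw [show n * c * w * (n * c)⁻¹ = n * (c * w * c⁻¹) * n⁻¹ by group, e']
        exact Subgroup.npow_mem_zpowers _ i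
      · have : (w : G) = 1 := conj_eq_one_iff.1 h
        rw [this, orderOf_one] at hwo
        norm_num at hwo
    rcases hi with e | e
    · exact Or.inl (key hbo e)
    · exact Or.inr (key hb1o e)
  · rw [hcN, T.counts.1]
  · obtain ⟨e⟩ := T.iso
    exact ⟨((QuotientGroup.quotientMulEquivOfEq hker.symm).trans
      (QuotientGroup.quotientKerEquivRange (P : Subgroup G).normalizerMonoidHom)).trans e⟩

end Cfsg.Agent.Spor.SuzT.Rad
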