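import Cfsg.Agent.Lib.Spor.SuzR.Five.Syl

/-!
Groups of Suzuki sporadic type: fusion in the centraliser of a five-element centralising the four-group.
-/

set_option autoImplicit false
set_option maxRecDepth 100000
set_option linter.unusedSectionVars false
set_option linter.style.haveILetI false

namespace Cfsg.Agent.Spor.SuzT.Rad

open Cfsg.Agent.Solv.CITGroups (orderOf_two_iff)

universe u

variable {G : Type u} [Group G] [Finite G] {z : G} {Q : Subgroup G} {C : Ctx z Q} {L : Cfg C} {b : G} (B : L.Fiv b)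
include B

theorem Cfg.Fiv.mem_pow {β : G} (h : β ∈ Subgroup.zpowers b) : β ^ 5 = 1 := by
  obtain ⟨i, rfl⟩ := h
  show (b ^ i) ^ 5 = 1
  rw [← zpow_natCast, ← zpow_mul, mul_comm, zpow_mul, zpow_natCast, B.pow5, one_zpow]

theorem Cfg.Fiv.V_b {w : G} (hw : w ∈ L.V) (h : w ∈ Subgroup.zpowers b) : w = 1 := by
  rw [← L.V_pow_odd hw (n := 5) (by decide)]; exact B.mem_pow h

theorem Cfg.Fiv.V_X {w : G} (hw : w ∈ L.V) : w ∈ cX b := mem_cX.2 (L.Hv_V B.mem hw).symm

/-- the centraliser of any involution of the four-group and the element -/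
theorem Cfg.Fiv.cent_V {w x : G} (hw : w ∈ L.V) (hw1 : w ≠ 1) (hxw : Commute x w) (hxb : Commute x b) :
    ∃ w' ∈ L.V, ∃ i : ℕ, x = w' * b ^ i := by
  obtain ⟨γ, hγ⟩ := L.exists_cyc
  have key : ∀ c : G, c ∈ L.NV → c * w * c⁻¹ = L.t → ∃ w' ∈ L.V, ∃ i : ℕ, x = w' * b ^ i := by
    intro c hc hcw
    have B' : L.Fiv (c * b * c⁻¹) :=
      ⟨L.NV_Hv hc B.mem, by rw [← MulAut.conj_apply, MulEquiv.orderOf_eq, B.ord]⟩
    obtain ⟨w', hw', i, e⟩ := B'.cent_t (x := c * x * c⁻¹) (hcw ▸ (Commute.conj_iff c).2 hxw)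
      ((Commute.conj_iff c).2 hxb)
    refine ⟨c⁻¹ * w' * c, (Subgroup.mem_normalizer_iff''.1 hc w').1 hw', i, ?_⟩
    rw [conj_pow] at e
    calc x = c⁻¹ * (c * x * c⁻¹) * c := by group
      _ = _ := by rw [e]; group
  rcases hw with e | e | e | e
  · exact absurd e hw1
  · exact key 1 (one_mem _) (by rw [e]; simp)
  · exact key γ⁻¹ (inv_mem hγ.nv) (by rw [e, ← hγ.1]; group)
  · exact key γ hγ.nv (by rw [e]; exact hγ.tv)

theorem Cfg.Fiv.conj_t_fix {x : G} (hxb : Commute x b) {w : G} (hw : w ∈ L.V) (hw1 : w ≠ 1)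
    (h : x * w * x⁻¹ = w) : Commute x L.t := by
  obtain ⟨w', hw', i, rfl⟩ := B.cent_V hw hw1 (mul_inv_eq_iff_eq_mul.1 h) hxb
  exact (L.V_comm hw' L.t_V).mul_left ((L.mem_Hv.1 B.mem).1.pow_left i)

/-- elements of the centraliser normalising the four-group -/
theorem Cfg.Fiv.NV_cases {x : G} (hx : x ∈ L.NV) (hxb : Commute x b) :
    Commute x L.t ∨ L.Cyc x ∨ L.Cyc x⁻¹ := by
  have hmul : ∀ a c : G, x * (a * c) * x⁻¹ = x * a * x⁻¹ * (x * c * x⁻¹) := fun a c => by group
  have hne : ∀ a : G, a ≠ 1 → x * a * x⁻¹ ≠ 1 := fun a ha e => ha (conj_eq_one_iff.1 e)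
  have htv : L.t * L.v ≠ 1 := L.tv_ne
  rcases L.NV_V hx L.t_V with e | e | e | e
  · exact absurd e (hne _ L.ne_one)
  · exact Or.inl (mul_inv_eq_iff_eq_mul.1 e)
  · rcases L.NV_V hx L.v_V with f | f | f | f
    · exact absurd f (hne _ L.v_ne_one)
    · refine Or.inl (B.conj_t_fix hxb (mul_mem L.t_V L.v_V) htv ?_)
      rw [hmul, e, f, L.v_t.eq]
    · exact absurd (mul_left_cancel (mul_right_cancel (e.trans f.symm))) L.t_ne_v
    · exact Or.inr (Or.inl ⟨e, f⟩)
  · rcases L.NV_V hx L.v_V with f | f | f | f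
    · exact absurd f (hne _ L.v_ne_one)
    · refine Or.inr (Or.inr ⟨?_, ?_⟩)
      · rw [← f]; group
      · rw [inv_inv]
        have g1 : x * (L.t * L.v) * x⁻¹ = L.v := by
          rw [hmul, e, f, mul_assoc, L.v_t.eq, ← mul_assoc, L.sq, one_mul]
        calc x⁻¹ * L.v * x = x⁻¹ * (x * (L.t * L.v) * x⁻¹) * x := by rw [g1]
          _ = _ := by group
    · exact Or.inl (B.conj_t_fix hxb L.v_V L.v_ne_one f)
    · exact absurd (mul_left_cancel (mul_right_cancel (e.trans f.symm))) L.t_ne_v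

theorem Cfg.Fiv.syl : Tw.RelSyl L.V (cX b) := by
  haveI : Fact (Nat.Prime 2) := ⟨Nat.prime_two⟩
  refine Tw.RelSyl.of_normal (fun w hw => B.V_X hw) (IsPGroup.of_card (n := 2) L.card_V) fun x hx h2 hn => ?_
  have hxb := mem_cX.1 hx
  obtain ⟨n, hn2⟩ := h2
  have h4 : x ^ (4 ^ n) = 1 := by
    rw [show (4 : ℕ) ^ n = 2 ^ n * 2 ^ n by rw [← mul_pow]; norm_num, pow_mul, hn2, one_pow]
  have h43 : 4 ^ n % 3 = 1 := by rw [Nat.pow_mod]; norm_num
  rcases B.NV_cases hn hxb with h | h | h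
  · obtain ⟨w, hw, i, e⟩ := B.cent_t h hxb
    have hb : (b ^ i) ^ (2 ^ n) = w ^ (2 ^ n) := by
      have hc : Commute w (b ^ i) := (L.Hv_V (pow_mem B.mem i) hw).symm
      have := hn2
      rw [e, hc.mul_pow] at this
      rw [← mul_left_cancel (a := w ^ (2 ^ n)) (this.trans (by rw [← pow_add, ← two_mul, pow_mul, pow_two,
        L.V_sq hw, one_pow] : (1 : G) = w ^ (2 ^ n) * w ^ (2 ^ n)))]
    have hbi : b ^ i = 1 := by
      refine orderOf_eq_one_iff.1 (Nat.eq_one_of_dvd_coprimes (k := orderOf (b ^ i))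
        (Nat.Coprime.pow_right (n + 1) (by norm_num : Nat.Coprime 5 2))
        (orderOf_dvd_of_pow_eq_one (B.mem_pow (Subgroup.npow_mem_zpowers b i))) (orderOf_dvd_of_pow_eq_one ?_))
      rw [pow_succ, pow_mul, hb, ← pow_mul, mul_comm, pow_mul, pow_two, L.V_sq hw, one_pow]
    rw [e, hbi, mul_one]
    exact hw
  · exfalso
    have := (h.pow L h43).1
    rw [h4, one_mul, inv_one, mul_one] at this
    exact L.t_ne_v this
  · exfalso
    have := (h.pow L h43).1
    rw [inv_pow, h4, inv_one, one_mul, inv_one, mul_one] at this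
    exact L.t_ne_v this

/-- an element of the centraliser permutes the three involutions -/
theorem Cfg.Fiv.exists_g : ∃ g, L.Cyc g ∧ Commute g b := by
  classical
  by_contra hcon
  push Not at hcon
  haveI : Fact (Nat.Prime 2) := ⟨Nat.prime_two⟩
  haveI : Fact (Nat.Prime 5) := ⟨by norm_num⟩
  have hle : Subgroup.normalizer ((B.syl.sylow : Subgroup (cX b)) : Set (cX b)) ≤
      Subgroup.centralizer ((B.syl.sylow : Subgroup (cX b)) : Set (cX b)) := by
    intro x hx
    have hxb := mem_cX.1 x.2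
    have hxNV : (x : G) ∈ L.NV := Tw.mem_normalizer_of fun w hw =>
      (Subgroup.mem_normalizer_iff.1 hx ⟨w, B.V_X hw⟩).1 hw
    rcases B.NV_cases hxNV hxb with h | h | h
    · refine Subgroup.mem_centralizer_iff.2 fun w hw => Subtype.ext ?_
      obtain ⟨w', hw', i, e⟩ := B.cent_t h hxb
      show (w : G) * x = x * w
      rw [e]
      exact ((L.V_comm hw hw').mul_right (L.Hv_V (pow_mem B.mem i) hw).symm).eq
    · exact absurd hxb (hcon _ h)
    · exact absurd hxb.inv_left (hcon _ h)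
  have hc := MonoidHom.ker_transferSylow_isComplement' B.syl.sylow hle
  set K := (MonoidHom.transferSylow B.syl.sylow hle).ker with hK
  have hcard := hc.card_mul
  rw [show Nat.card (B.syl.sylow : Subgroup (cX b)) = 4 by
    rw [← L.card_V]
    exact Nat.card_congr (Subgroup.subgroupOfEquivOfLe fun w hw => B.V_X hw).toEquiv] at hcard
  have hidx : K.index = 4 := by
    have h := K.card_mul_index
    rw [← hcard] at h
    exact Nat.eq_of_mul_eq_mul_left Nat.card_pos h
  have hKodd : Odd (Nat.card K) := by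
    have h := B.syl.odd_index
    have h2 := (L.V.subgroupOf (cX b)).card_mul_index
    rw [Nat.card_congr (Subgroup.subgroupOfEquivOfLe fun w hw => B.V_X hw).toEquiv, L.card_V, ← hcard] at h2
    rw [show Nat.card K = (L.V.subgroupOf (cX b)).index by omega]
    exact h
  obtain ⟨P⟩ : Nonempty (Sylow 5 (cX b)) := inferInstance
  have hn5 : ¬ 2 ∣ Nat.card (Sylow 5 (cX b)) := by
    rw [P.card_eq_index_normalizer]
    have hsup : Subgroup.normalizer ((P : Subgroup (cX b)) : Set (cX b)) ⊔ K = ⊤ := by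
      have hPK : (P : Subgroup (cX b)) ≤ K := fun p hp => by
        rw [← QuotientGroup.eq_one_iff, ← orderOf_eq_one_iff]
        obtain ⟨j, hj⟩ := P.isPGroup' ⟨p, hp⟩
        refine Nat.eq_one_of_dvd_coprimes (Nat.Coprime.pow_left j (by norm_num : Nat.Coprime 5 4))
          ((orderOf_map_dvd (QuotientGroup.mk' K) p).trans (orderOf_dvd_of_pow_eq_one (congrArg Subtype.val hj)))
          (hidx ▸ orderOf_dvd_natCard (QuotientGroup.mk' K p : cX b ⧸ K))
      have h := Sylow.normalizer_sup_eq_top (P.subtype hPK)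
      rwa [Sylow.coe_subtype, Subgroup.map_subgroupOf_eq_of_le hPK] at h
    haveI : K.Normal := by rw [hK]; infer_instance
    set N := Subgroup.normalizer ((P : Subgroup (cX b)) : Set (cX b)) with hNdef
    have h1 := Subgroup.relIndex_mul_index (inf_le_right : N ⊓ K ≤ K)
    have h2 := Subgroup.relIndex_mul_index (inf_le_left : N ⊓ K ≤ N)
    rw [Subgroup.inf_relIndex_right] at h1
    rw [Subgroup.inf_relIndex_left, ← Subgroup.relIndex_sup_right, hsup, Subgroup.relIndex_top_right,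
      ← h1, mul_comm] at h2
    intro hd
    change 2 ∣ N.index at hd
    rw [Nat.eq_of_mul_eq_mul_right (Nat.pos_of_ne_zero K.index_ne_zero_of_finite) h2] at hd
    exact Nat.not_even_iff_odd.2 (hKodd.of_dvd_nat (Subgroup.relIndex_dvd_card _ _)) (even_iff_two_dvd.2 hd)
  obtain ⟨P', hP'⟩ := (B.syl.sylow.isPGroup').nonempty_fixed_point_of_prime_not_dvd_card (Sylow 5 (cX b)) hn5
  have hP25 : Nat.card (P' : Subgroup (cX b)) = 25 := L.twentyfive_max (L.five_dvd_cX B.ord) P'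
  have hcomm : ∀ a ∈ (P' : Subgroup (cX b)), ∀ c ∈ (P' : Subgroup (cX b)), Commute a c := fun a ha c hc' =>
    congrArg Subtype.val ((IsPGroup.commGroupOfCardEqPrimeSq
      (show Nat.card (P' : Subgroup (cX b)) = 5 ^ 2 by rw [hP25]; norm_num)).mul_comm ⟨a, ha⟩ ⟨c, hc'⟩)
  have hpow : ∀ y ∈ (P' : Subgroup (cX b)), ∃ j : ℕ, (y : G) ^ 5 ^ j = 1 := fun y hy => by
    obtain ⟨j, hj⟩ := P'.isPGroup' ⟨y, hy⟩
    exact ⟨j, congrArg (fun a : (P' : Subgroup (cX b)) => ((a : cX b) : G)) hj⟩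
  have hstep : ∀ w ∈ L.V, w ≠ 1 → ∀ y ∈ (P' : Subgroup (cX b)),
      w * (y : G) * w * y ∈ Subgroup.zpowers b := by
    intro w hw hw1 y hy
    have hwP : ⟨w, B.V_X hw⟩ * y * (⟨w, B.V_X hw⟩ : cX b)⁻¹ ∈ (P' : Subgroup (cX b)) := by
      have h := hP' ⟨⟨w, B.V_X hw⟩, hw⟩
      rw [← h]
      exact ⟨y, hy, rfl⟩
    have hww : w⁻¹ = w := inv_eq_of_mul_eq_one_right (L.V_sq hw)
    set y' : G := w * (y : G) * w with hy'
    have hyy' : Commute y' (y : G) := by
      have := congrArg Subtype.val (hcomm _ hwP _ hy).eq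
      simp only [Subgroup.coe_mul, Subgroup.coe_inv, hww] at this
      exact this
    have hcw : Commute (y' * y) w := by
      calc y' * y * w = (y : G) * y' * w := by rw [hyy'.eq]
        _ = (y : G) * (w * y) := by rw [hy', show (y : G) * (w * y * w) * w = y * (w * y) * (w * w) by group,
          L.V_sq hw, mul_one]
        _ = w * (w * y * w * y) := by rw [show w * (w * (y : G) * w * y) = w * w * (y * (w * y)) by group,
          L.V_sq hw, one_mul]
    have hb : Commute (y' * y) b := by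
      have h1 : Commute y' b := by
        rw [hy']
        exact ((L.Hv_V B.mem hw).symm.mul_left (mem_cX.1 y.2)).mul_left (L.Hv_V B.mem hw).symm
      exact h1.mul_left (mem_cX.1 y.2)
    obtain ⟨w', hw', i, e⟩ := B.cent_V hw hw1 hcw hb
    obtain ⟨j, hj⟩ := hpow y hy
    have h5 : (y' * y) ^ 5 ^ j = 1 := by
      rw [hyy'.mul_pow, hj, mul_one, hy']
      conv_lhs => rw [show w * (y : G) * w = w * y * w⁻¹ by rw [hww]]
      rw [conj_pow, hj]; group
    have hw'1 : w' = 1 := by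
      have hc1 : Commute w' (b ^ i) := (L.Hv_V (pow_mem B.mem i) hw').symm
      rw [e, hc1.mul_pow, L.V_pow_odd hw' ((show Odd 5 by decide).pow)] at h5
      refine B.V_b hw' ?_
      rw [eq_inv_of_mul_eq_one_left h5]
      exact inv_mem (pow_mem (Subgroup.npow_mem_zpowers b i) _)
    rw [e, hw'1, one_mul]
    exact Subgroup.npow_mem_zpowers b i
  have hall : ∀ y ∈ (P' : Subgroup (cX b)), (y : G) ∈ Subgroup.zpowers b := by
    intro y hy
    obtain ⟨β1, hβ1, e1⟩ : ∃ β ∈ Subgroup.zpowers b, L.t * y * L.t = β * (y : G)⁻¹ :=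
      ⟨_, hstep _ L.t_V L.ne_one y hy, by group⟩
    obtain ⟨β2, hβ2, e2⟩ : ∃ β ∈ Subgroup.zpowers b, L.v * y * L.v = β * (y : G)⁻¹ :=
      ⟨_, hstep _ L.v_V L.v_ne_one y hy, by group⟩
    obtain ⟨β3, hβ3, e3⟩ : ∃ β ∈ Subgroup.zpowers b, L.t * L.v * y * (L.t * L.v) = β * (y : G)⁻¹ :=
      ⟨_, hstep _ (mul_mem L.t_V L.v_V) L.tv_ne y hy, by group⟩
    have hcy : ∀ β ∈ Subgroup.zpowers b, Commute β (y : G) ∧ Commute β L.t := by
      rintro β ⟨i, rfl⟩
      exact ⟨(mem_cX.1 y.2).symm.zpow_left i, (L.mem_Hv.1 B.mem).1.zpow_left i⟩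
    have e4 : L.t * L.v * y * (L.t * L.v) = β2 * ((y : G) * β1⁻¹) := by
      have hti : L.t⁻¹ = L.t := inv_eq_of_mul_eq_one_right L.sq
      rw [show L.t * L.v * y * (L.t * L.v) = L.t * L.v * y * (L.v * L.t) by rw [L.v_t.eq],
        show L.t * L.v * y * (L.v * L.t) = L.t * (L.v * y * L.v) * L.t by group, e2]
      calc L.t * (β2 * (y : G)⁻¹) * L.t = β2 * (L.t * (y : G)⁻¹ * L.t) := by
            rw [← mul_assoc, ← (hcy _ hβ2).2.eq]; group
        _ = β2 * (L.t * y * L.t)⁻¹ := by rw [mul_inv_rev, mul_inv_rev, hti, ← mul_assoc L.t]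
        _ = _ := by rw [e1, mul_inv_rev, inv_inv]
    have h2 : (y : G) ^ 2 ∈ Subgroup.zpowers b := by
      have e5 : (y : G) ^ 2 = β1 * β2⁻¹ * β3 := by
        have h := e4.symm.trans e3
        have hy2 : (y : G) * β1⁻¹ = β2⁻¹ * (β3 * (y : G)⁻¹) := by rw [← h, inv_mul_cancel_left]
        calc (y : G) ^ 2 = (y : G) * β1⁻¹ * (β1 * y) := by rw [pow_two]; group
          _ = β2⁻¹ * (β3 * (y : G)⁻¹) * ((y : G) * β1) := by rw [hy2, (hcy _ hβ1).1.eq]
          _ = β2⁻¹ * β3 * β1 := by group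
          _ = _ := by
            have hab : ∀ {p q : G}, p ∈ Subgroup.zpowers b → q ∈ Subgroup.zpowers b → Commute p q := by
              rintro p q ⟨i, rfl⟩ ⟨k, rfl⟩
              exact Commute.zpow_zpow (Commute.refl b) i k
            rw [(hab (mul_mem (inv_mem hβ2) hβ3) hβ1).eq, mul_assoc]
      rw [e5]
      exact mul_mem (mul_mem hβ1 (inv_mem hβ2)) hβ3
    obtain ⟨j, hj⟩ := hpow y hy
    obtain ⟨k, hk⟩ : Odd (5 ^ j) := (show Odd 5 by decide).pow
    have : (y : G) = ((y : G) ^ 2) ^ (k + 1) := by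
      rw [← pow_mul, show 2 * (k + 1) = 5 ^ j + 1 by omega, pow_succ, hj, one_mul]
    rw [this]
    exact pow_mem h2 _
  have hle' : Nat.card (P' : Subgroup (cX b)) ≤ 5 := by
    refine le_of_le_of_eq ?_ ((Nat.card_zpowers b).trans B.ord)
    exact Nat.card_le_card_of_injective (fun y : (P' : Subgroup (cX b)) => (⟨_, hall _ y.2⟩ : Subgroup.zpowers b))
      fun a c e => Subtype.ext (Subtype.ext (congrArg (fun v : Subgroup.zpowers b => (v : G)) e))
  omega

end Cfsg.Agent.Spor.SuzT.Rad
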