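import Cfsg.Agent.Lib.Spor.SuzR.Ord.Order
import Cfsg.Agent.Lib.Spor.SuzR.Five.FiveCent

/-!
Groups of Suzuki sporadic type: the Sylow five-subgroups have order twenty-five.
-/

set_option autoImplicit false
set_option maxRecDepth 100000
set_option linter.unusedSectionVars false
set_option linter.style.haveILetI false

namespace Cfsg.Agent.Spor.SuzT.Rad

universe u

variable {G : Type u} [Group G] [Finite G] {z : G} {Q : Subgroup G} {C : Ctx z Q} (L : Cfg C)

include L in
theorem Cfg.card_syl5 (P : Sylow 5 G) : Nat.card (P : Subgroup G) = 25 := by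
  haveI : Fact (Nat.Prime 5) := ⟨by norm_num⟩
  obtain ⟨m, hm, hm4⟩ := L.order_five
  rw [P.card_eq_multiplicity, hm, show (25 : ℕ) = 5 ^ 2 by norm_num,
    Nat.factorization_mul (by norm_num) (by omega), Finsupp.add_apply,
    (by norm_num : Nat.Prime 5).factorization_pow, Finsupp.single_eq_same,
    Nat.factorization_eq_zero_of_not_dvd (fun h => by omega : ¬ 5 ∣ m)]

include L in
theorem Cfg.syl5_comm (P : Sylow 5 G) {a b : G} (ha : a ∈ (P : Subgroup G)) (hb : b ∈ (P : Subgroup G)) : Commute a b := by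
  haveI : Fact (Nat.Prime 5) := ⟨by norm_num⟩
  have h : Nat.card (P : Subgroup G) = 5 ^ 2 := by rw [L.card_syl5 P]; norm_num
  exact congrArg Subtype.val ((IsPGroup.commGroupOfCardEqPrimeSq h).mul_comm ⟨a, ha⟩ ⟨b, hb⟩)

include L in
theorem Cfg.five_dvd_cX {y : G} (hy : orderOf y = 5) : 25 ∣ Nat.card (cX y) := by
  haveI : Fact (Nat.Prime 5) := ⟨by norm_num⟩
  obtain ⟨P, hP⟩ :=
    (IsPGroup.of_card (n := 1) (by rw [Nat.card_zpowers, hy, pow_one]) : IsPGroup 5 (Subgroup.zpowers y)).exists_le_sylow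
  rw [← L.card_syl5 P]
  exact Subgroup.card_dvd_of_le fun x hx => mem_cX.2 (L.syl5_comm P hx (hP (Subgroup.mem_zpowers y)))

include L in
theorem Cfg.twentyfive_max {H : Subgroup G} (h : 25 ∣ Nat.card H) (S : Sylow 5 H) : Nat.card (S : Subgroup H) = 25 := by
  haveI : Fact (Nat.Prime 5) := ⟨by norm_num⟩
  obtain ⟨m, hm, hm4⟩ := L.order_five
  obtain ⟨k, hk⟩ := h
  have h5 : ¬ 5 ∣ k := fun h5 => by
    obtain ⟨i, hi⟩ := h5
    have hd : 25 * (5 * i) ∣ 25 * m := by rw [← hm, ← hi, ← hk]; exact H.card_subgroup_dvd_card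
    have := (Dvd.intro i rfl : 5 ∣ 5 * i).trans (Nat.dvd_of_mul_dvd_mul_left (by norm_num) hd)
    omega
  have hk0 : k ≠ 0 := fun e => by rw [e, mul_zero] at hk; exact Nat.card_pos.ne' hk
  rw [S.card_eq_multiplicity, hk, show (25 : ℕ) = 5 ^ 2 by norm_num, Nat.factorization_mul (by norm_num) hk0,
    Finsupp.add_apply, (by norm_num : Nat.Prime 5).factorization_pow, Finsupp.single_eq_same,
    Nat.factorization_eq_zero_of_not_dvd h5]

end Cfsg.Agent.Spor.SuzT.Rad
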